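import Cfsg.Agent.H523.KA.NumSp
import Cfsg.Agent.H115.Tits.StmtsC
import Cfsg.Agent.H499.TTSp
import Cfsg.Agent.S0245
import Cfsg.Agent.S0246

/-!
# S3414, TABSQ: the row `Sp_2m(2)` (helper523)
-/

set_option autoImplicit false

namespace Cfsg.Agent.H523.KA.RowSp

open Cfsg Cfsg.Agent.H115.Tits Cfsg.Agent.H384.TwoTrans

universe u v w

variable {G : Type u} {Ω : Type v} [Group G] [MulAction G Ω] {T : Subgroup G} {t T₂ : ℕ}

theorem card_psp {F : Type*} [Field F] [Fintype F] (hF : Fintype.card F = 2) {m : ℕ} (hm : 1 ≤ m) :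
    Nat.card (PSp m F) = 2 ^ (m ^ 2) * ∏ i ∈ Finset.range m, (2 ^ (2 * (i + 1)) - 1) := by
  have h1 := S0245.result hF m
  have h2 := S0246.result hF m hm
  have h3 := Subgroup.card_mul_index (Subgroup.center ↥(Matrix.symplecticGroup (Fin m) F))
  rw [h1, h2] at h3
  have h4 : Nat.gcd 2 (2 - 1) = 1 := by decide
  rw [h4, one_mul] at h3
  exact h3

/-- **the row `Sp_2m(2)` of TABSQ** -/
theorem row_sp (D : DatSq Ω T t T₂) {F : Type w} [Field F] [Fintype F] {m : ℕ} (hF : Fintype.card F = 2) (hm : 3 ≤ m)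
    (e : ↥T ≃* PSp m F) (hn : t + 1 = 2 ^ (m - 1) * (2 ^ m + 1) ∨ t + 1 = 2 ^ (m - 1) * (2 ^ m - 1)) : False := by
  have := D.A.finG
  have := D.A.finΩ
  have := D.A.faithful
  have hT := Cfsg.Agent.H499.TT.sp_index D.A hF hm e
  have h1 : Nat.card T = Nat.card G := by
    rw [hT]
    exact Nat.card_congr (Equiv.subtypeUnivEquiv fun _ => Subgroup.mem_top _)
  have h2 : Nat.card G = 2 ^ (m ^ 2) * ∏ i ∈ Finset.range m, (2 ^ (2 * (i + 1)) - 1) := by
    rw [← h1, Nat.card_congr e.toEquiv, card_psp hF (by omega)]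
  refine NumSp.num_sp hm hn ?_
  rw [← h2, D.hG, mul_assoc]
  exact (Nat.mul_dvd_mul_left t D.sq).mul_left _

end Cfsg.Agent.H523.KA.RowSp
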