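import Cfsg.Agent.H523.KA.BRk
import Cfsg.Agent.H115.Tits.StmtsB
import Cfsg.Agent.H23.FreeAct
import Cfsg.Agent.PLocal.SubnormalCore
import Cfsg.Agent.Lib.Cores
import Cfsg.Agent.S0044
import Cfsg.Agent.S0205
import Cfsg.Agent.S0493

/-!
# S3414, case (B), pieces `StUni` and `StKF` (helper523)
-/

set_option autoImplicit false

namespace Cfsg.Agent.H523.KA.Uni

open Cfsg.Agent.H873.Tits Cfsg.Agent.H115.Tits Cfsg.Agent.H523.KA.BRk MulAction

universe u v

/-- Groups with fewer than 60 elements are solvable (copied from `BpAlt.Row`). -/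
theorem solvable_of_lt : ∀ (n : ℕ) {G : Type v} [Group G] [Finite G], Nat.card G = n → n < 60 →
    Group.IsSolvable G := by
  intro n
  induction n using Nat.strong_induction_on with
  | _ n ih =>
    intro G _ _ hG hn
    by_cases hs : IsSimpleGroup G
    · by_cases hcy : IsCyclic G
      · have := hcy
        let _ : CommGroup G := IsCyclic.commGroup
        infer_instance
      · exfalso
        have := S0493.result hcy (by omega)
        omega
    · rcases subsingleton_or_nontrivial G with ht | ht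
      · infer_instance
      · have h1 : ∃ N : Subgroup G, N.Normal ∧ N ≠ ⊥ ∧ N ≠ ⊤ := by
          by_contra hcon
          push Not at hcon
          apply hs
          exact ⟨fun N hN => by
            by_contra h
            rw [not_or] at h
            exact h.2 (hcon N hN h.1)⟩
        obtain ⟨N, hN, hb, htop⟩ := h1
        have hN' := hN
        have hc := N.card_mul_index
        have hN1 : 1 < Nat.card ↥N := (Subgroup.one_lt_card_iff_ne_bot N).mpr hb
        have hi1 : N.index ≠ 1 := fun h => htop (Subgroup.index_eq_one.mp h)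
        have hi0 : N.index ≠ 0 := Subgroup.index_ne_zero_of_finite
        have hq : Nat.card (G ⧸ N) = N.index := rfl
        have hlt1 : Nat.card ↥N < n := by
          rw [← hG, ← hc]
          have : 2 ≤ N.index := by omega
          nlinarith
        have hlt2 : Nat.card (G ⧸ N) < n := by
          rw [hq, ← hG, ← hc]
          have : 1 ≤ N.index := by omega
          nlinarith
        exact (Group.isSolvable_iff_subgroup_quotient N).2
          ⟨ih _ hlt1 rfl (by omega), ih _ hlt2 rfl (by omega)⟩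

theorem solvable_of {M : Type v} [Group M] [Finite M] {t : ℕ} (ht0 : 2 ≤ t) (hM : Nat.card M ∣ t)
    (ht : ¬ 2 ∣ t ∨ t < 60 ∨ ∃ p k : ℕ, p.Prime ∧ t = p ^ k) : Group.IsSolvable M := by
  rcases ht with h | h | ⟨p, k, hp, rfl⟩
  · refine Cfsg.Agent.S0205.result ?_
    rw [← Nat.not_even_iff_odd, even_iff_two_dvd]
    exact fun h2 => h (h2.trans hM)
  · exact solvable_of_lt _ rfl ((Nat.le_of_dvd (by omega) hM).trans_lt h)
  · have : Fact p.Prime := ⟨hp⟩
    obtain ⟨j, -, hj⟩ := (Nat.dvd_prime_pow hp).1 hM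
    have := (IsPGroup.of_card hj).isNilpotent
    infer_instance

/-- a nontrivial finite solvable group has a nontrivial normal `r`-subgroup for some prime `r` -/
theorem exists_pCore {G : Type*} [Group G] [Finite G] [Nontrivial G] (hs : Group.IsSolvable G) :
    ∃ r : ℕ, r.Prime ∧ Cfsg.pCore r G ≠ ⊥ := by
  by_contra hcon
  push Not at hcon
  have h1 : Cfsg.fittingSubgroup G = ⊥ := by
    rw [Cfsg.Agent.Lib.Cores.fittingSubgroup_eq_iSup_pCore, eq_bot_iff]
    exact iSup_le fun p => (hcon p p.2).le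
  have h2 := Cfsg.Agent.S0044.result (G := G)
  rw [h1] at h2
  have h3 : (⊤ : Subgroup G) ≤ ⊥ := by
    intro x _
    refine h2 (Subgroup.mem_centralizer_iff.mpr ?_)
    intro y hy
    rw [SetLike.mem_coe, Subgroup.mem_bot] at hy
    rw [hy, one_mul, mul_one]
  exact bot_ne_top (le_antisymm bot_le h3)

/-- the order of a subgroup of the stabilizer which is semiregular on the remaining points -/
theorem card_dvd {Ω : Type v} [Finite Ω] {a : Ω} {M : Subgroup (Equiv.Perm Ω)} (hM : ∀ g ∈ M, g a = a)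
    (hreg : ∀ g ∈ M, ∀ w, w ≠ a → g w = w → g = 1) : Nat.card M ∣ Nat.card Ω - 1 := by
  classical
  let _ : MulAction M {w : Ω // w ≠ a} :=
    { smul := fun g w => ⟨g.1 w.1, fun h => w.2 (g.1.injective (h.trans (hM g.1 g.2).symm))⟩
      one_smul := fun w => rfl
      mul_smul := fun g h w => rfl }
  have h1 := Cfsg.Agent.H23.FreeAct.card_dvd_of_free (D := M) (α := {w : Ω // w ≠ a}) fun d x h =>
    Subtype.ext (hreg d.1 d.2 x.1 x.2 (congrArg Subtype.val h))
  have h2 : Nat.card {w : Ω // w ≠ a} = Nat.card Ω - 1 := by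
    have : Fintype Ω := Fintype.ofFinite Ω
    rw [Nat.card_eq_fintype_card, Nat.card_eq_fintype_card]
    exact Set.card_ne_eq a
  rwa [h2] at h1

/-- from a subnormal semiregular subgroup of the point stabilizer to `O_p` -/
theorem lq_of_semi {Ω : Type v} [Finite Ω] (L : Subgroup (Equiv.Perm Ω)) (t : ℕ) (h2 : TwoTr L) (hcard : Nat.card Ω = t + 1)
    (ht2 : 2 ≤ t) (ht : ¬ 2 ∣ t ∨ t < 60 ∨ ∃ p k : ℕ, p.Prime ∧ t = p ^ k) {a b : Ω} (hab : a ≠ b)
    {M : Subgroup (Equiv.Perm Ω)} (hM : M ≤ Stb L a) (hMs : (M.subgroupOf (Stb L a)).IsSubnormal) (hM1 : M ≠ ⊥)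
    (hreg : ∀ g ∈ M, ∀ w, w ≠ a → g w = w → g = 1) : ∃ p Q, LQ L t p a b Q := by
  have hdvd := card_dvd (fun g hg => (hM hg).2) hreg
  rw [hcard, Nat.add_sub_cancel] at hdvd
  have hsol : Group.IsSolvable M := solvable_of ht2 hdvd ht
  have hsol' : Group.IsSolvable (M.subgroupOf (Stb L a)) :=
    Group.isSolvable_of_isSolvable_injective (f := (Subgroup.subgroupOfEquivOfLe hM).toMonoidHom)
      (Subgroup.subgroupOfEquivOfLe hM).injective
  have hnt : Nontrivial (M.subgroupOf (Stb L a)) := by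
    rw [Subgroup.nontrivial_iff_ne_bot]
    intro h
    apply hM1
    rw [Subgroup.subgroupOf_eq_bot] at h
    rw [← inf_eq_left.2 hM]
    exact h.eq_bot
  obtain ⟨r, hr, hrb⟩ := exists_pCore hsol'
  have h3 := Cfsg.Agent.PLocal.SubnormalCore.map_subtype_pCore_le (p := r) hMs
  have h4 : Cfsg.pCore r (Stb L a) ≠ ⊥ := by
    intro h
    rw [h, le_bot_iff, Subgroup.map_eq_bot_iff_of_injective _ (Subgroup.subtype_injective _)] at h3
    exact hrb h3
  refine ⟨r, (Cfsg.pCore r (Stb L a)).map (Stb L a).subtype, h2, hcard, ht2, hr, hab, ?_, Subgroup.map_subtype_le _, ?_,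
    (Cfsg.Agent.Lib.Cores.pCore_isPGroup r).map _⟩
  · rw [Ne, Subgroup.map_eq_bot_iff_of_injective _ (Subgroup.subtype_injective _)]
    exact h4
  · rw [Subgroup.subgroupOf, Subgroup.comap_map_eq_self_of_injective (Subgroup.subtype_injective _)]
    exact Cfsg.Agent.Lib.Cores.pCore_normal r

/-- **`StKF`** -/
theorem st_kf : StKF.{v} := by
  intro Ω _ L X h2 h3 hXL hXn hXb hX
  by_contra haff
  obtain ⟨T, -, -, -, -, hTmin, x, z, hxz, σ, hσ, hσ1, hσx, hσz⟩ := exists_soc L h2 h3 haff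
  exact hσ1 (hX x z hxz σ (hTmin X hXL hXn hXb hσ) hσx hσz)

/-- **`StUni`** -/
theorem st_uni (hC : StChain.{u, v}) (h1 : StTab1a.{v}) (h2 : StTab2.{v}) : StUni.{u, v} := by
  intro G _ _ V _ _ P x y z y' C r hr ht
  have hfin := Cfsg.Agent.H263.TW.finite_nb P y
  obtain ⟨M, hM, hMs, hrM, hreg⟩ := hC P C hr
  have hM1 : M ≠ ⊥ := by
    rintro rfl
    rw [Subgroup.card_bot, Nat.dvd_one] at hrM
    exact hr.1.one_lt.ne' hrM
  obtain ⟨p, Q, hQ⟩ := lq_of_semi (P.L y) (P.q (P.tp y)) (twoTr_L C.F y) (P.card_nb y) (P.two_le _) ht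
    (b := ⟨z, C.hz⟩) (fun h => C.xz (congrArg Subtype.val h)) hM hMs hM1 hreg
  rcases h1 (P.L y) _ _ _ _ _ hQ C.na with ⟨k, hk⟩ | ⟨d, f, h⟩
  · by_cases hex : ∃ r : ℕ, r.Prime ∧ r ≠ p ∧ r ∣ P.idx y y'
    · obtain ⟨r', hr', hrp, hri⟩ := hex
      rcases h2 (P.L y) (P.L' y y') _ _ _ _ _ hQ (twoTr_L' C.F C.opp) L'_le_L ⟨k, hk⟩ C.na hr' hrp hri with
          ⟨X, hX1, hX2, hX3, hX4⟩ | ⟨e1, e2, e3, e4, e5⟩
      · exfalso
        refine C.na (st_kf (P.L y) X (twoTr_L C.F y) ?_ (hX1.trans L'_le_L) hX2 ?_ ?_)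
        · rw [P.card_nb]
          have := P.two_le (P.tp y)
          omega
        · rintro rfl
          obtain ⟨τ, hτ, h1, -⟩ := hX3 _ _ hQ.ne
          rw [Subgroup.mem_bot] at hτ
          rw [hτ] at h1
          exact hQ.ne h1
        · intro a c hac σ hσ ha hc
          exact Cfsg.Agent.H115.Tits.kill C.F C.B rfl C.opp X hX1 hX2 hac hσ ha hc
      · exact Or.inr (Or.inr ⟨e1, e4, e5⟩)
    · left
      push Not at hex
      have hp := hQ.prime
      obtain ⟨e, he⟩ : ∃ e, P.idx y y' = p ^ e :=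
        ⟨_, Nat.eq_prime_pow_of_unique_prime_dvd idx_ne_zero fun {d} hd hdi => by
          by_contra hdp
          exact hex d hd hdp hdi⟩
      have hsd := s_dvd_idx C.F C.B rfl C.opp
      rw [he] at hsd
      obtain ⟨c', -, hc'⟩ := (Nat.dvd_prime_pow hp).1 hsd
      refine ⟨p, hp, fun b => ?_⟩
      by_cases hb : b = P.tp y
      · exact ⟨k, by rw [hb, hk]⟩
      · refine ⟨c', ?_⟩
        rw [← hc']
        congr 1
        cases b <;> cases h : P.tp y <;> simp_all
  · exact Or.inr (Or.inl ⟨p, d, f, h⟩)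

end Cfsg.Agent.H523.KA.Uni
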