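import Mathlib

/-!
# S3414, key lemma: abstract part

* `perm_inv` : in a group of class two the product `l.prod * l.reverse.prod` does not depend on the order of the list;
* `comm_zpow` ... : the commutator `z` of `ρ` and `τ`.
-/

set_option autoImplicit false

namespace Cfsg.Agent.H523.KA.Abs

open List

universe u v

section ClassTwo

variable {Γ : Type u} [Group Γ]

/-- the symmetric product of a list -/
def sp (l : List Γ) : Γ := l.prod * l.reverse.prod

theorem sp_cons (a : Γ) (l : List Γ) : sp (a :: l) = a * sp l * a := by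
  unfold sp
  rw [List.prod_cons, List.reverse_cons, List.prod_append, List.prod_singleton]
  group

theorem sp_nil : sp ([] : List Γ) = 1 := by unfold sp; simp

theorem sp_mem (H : Subgroup Γ) {l : List Γ} (hl : ∀ a ∈ l, a ∈ H) : sp l ∈ H := by
  unfold sp
  exact H.mul_mem (H.list_prod_mem hl) (H.list_prod_mem fun a ha => hl a (List.mem_reverse.1 ha))

theorem sp_perm (H : Subgroup Γ) (hH : ∀ a ∈ H, ∀ b ∈ H, ∀ c ∈ H, (a * b * a⁻¹ * b⁻¹) * c = c * (a * b * a⁻¹ * b⁻¹))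
    {l l' : List Γ} (h : l ~ l') : (∀ a ∈ l, a ∈ H) → sp l = sp l' := by
  induction h with
  | nil => intro _; rfl
  | cons x h ih =>
    intro hl
    rw [sp_cons, sp_cons, ih fun a ha => hl a (List.mem_cons_of_mem _ ha)]
  | swap a b l =>
    intro hl
    have ha : a ∈ H := hl a (by simp)
    have hb : b ∈ H := hl b (by simp)
    have hM : sp l ∈ H := sp_mem H fun c hc => hl c (by simp [hc])
    rw [sp_cons, sp_cons, sp_cons, sp_cons]
    generalize sp l = M at hM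
    -- b * (a * M * a) * b = a * (b * M * b) * a
    have h1 := hH b hb a ha M hM
    have h2 := hH b hb a ha a ha
    have h3 := hH b hb a ha b hb
    set c := b * a * b⁻¹ * a⁻¹ with hc
    have e1 : b * a = c * (a * b) := by rw [hc]; group
    calc b * (a * M * a) * b = (b * a) * M * (a * b) := by group
      _ = (c * (a * b)) * M * (a * b) := by rw [e1]
      _ = (a * b) * M * (c * (a * b)) := by
          have e2 : c * (a * b) = (a * b) * c := by
            rw [← mul_assoc, h2, mul_assoc, h3, mul_assoc]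
          calc (c * (a * b)) * M * (a * b) = (a * b) * (c * M) * (a * b) := by rw [e2]; group
            _ = (a * b) * (M * c) * (a * b) := by rw [h1]
            _ = _ := by group
      _ = (a * b) * M * (b * a) := by rw [← e1]
      _ = a * (b * M * b) * a := by group
  | trans h1 h2 ih1 ih2 =>
    intro hl
    rw [ih1 hl, ih2 fun a ha => hl a (h1.mem_iff.2 ha)]

theorem sp_map_conj (g : Γ) (l : List Γ) : sp (l.map fun a => g * a * g⁻¹) = g * sp l * g⁻¹ := by
  induction l with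
  | nil => simp [sp_nil]
  | cons a l ih => rw [List.map_cons, sp_cons, sp_cons, ih]; group

theorem sp_map_mul (H : Subgroup Γ) (z : Γ) (hz : ∀ a ∈ H, z * a = a * z) (l : List Γ) (hl : ∀ a ∈ l, a ∈ H) :
    sp (l.map fun a => z * a) = z ^ (2 * l.length) * sp l := by
  induction l with
  | nil => simp [sp_nil]
  | cons a l ih =>
    have ha : a ∈ H := hl a (by simp)
    have hM : sp l ∈ H := sp_mem H fun c hc => hl c (by simp [hc])
    rw [List.map_cons, sp_cons, sp_cons, ih fun c hc => hl c (by simp [hc]), List.length_cons]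
    have e1 := hz a ha
    have e2 : z ^ (2 * l.length) * a = a * z ^ (2 * l.length) := by
      have : Commute z a := e1
      exact (this.pow_left _).eq
    have e3 := hz _ hM
    have e4 : z * a * (z ^ (2 * l.length) * sp l) * (z * a) = (z * z ^ (2 * l.length) * z) * (a * sp l * a) := by
      calc z * a * (z ^ (2 * l.length) * sp l) * (z * a) = z * (a * z ^ (2 * l.length)) * (sp l * z) * a := by group
        _ = z * (z ^ (2 * l.length) * a) * (z * sp l) * a := by rw [e2, e3]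
        _ = z * z ^ (2 * l.length) * (a * z) * sp l * a := by group
        _ = z * z ^ (2 * l.length) * (z * a) * sp l * a := by rw [e1]
        _ = _ := by group
    rw [e4]
    congr 1
    rw [← pow_succ', ← pow_succ]
    congr 1

end ClassTwo

/-- The situation: `φ : Γ →* Λ`, `Y ≤ Γ`, elements of `Y ⊓ ker φ` commute with `Y`. -/
structure Sit {Γ : Type u} [Group Γ] {Λ : Type v} [Group Λ] (φ : Γ →* Λ) (Y : Subgroup Γ) : Prop where
  cent : ∀ z ∈ Y, φ z = 1 → ∀ a ∈ Y, z * a = a * z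

section Sit

variable {Γ : Type u} [Group Γ] {Λ : Type v} [Group Λ] {φ : Γ →* Λ} {Y : Subgroup Γ} (H : Sit φ Y)

include H

/-- the commutator `z = ρ τ ρ⁻¹ τ⁻¹` lies in `Y ⊓ ker φ`, and `z ^ orderOf ρ = 1`, `z ^ orderOf (φ τ) = 1` -/
theorem Sit.zpow {ρ τ : Γ} (hρ : ρ ∈ Y) (hτ : τ ∈ Y) (hc : φ ρ * φ τ = φ τ * φ ρ) :
    (ρ * τ * ρ⁻¹ * τ⁻¹ ∈ Y ∧ φ (ρ * τ * ρ⁻¹ * τ⁻¹) = 1) ∧ (ρ * τ * ρ⁻¹ * τ⁻¹) ^ orderOf ρ = 1 ∧
      (ρ * τ * ρ⁻¹ * τ⁻¹) ^ orderOf (φ τ) = 1 := by
  set z := ρ * τ * ρ⁻¹ * τ⁻¹ with hz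
  have h1 : z ∈ Y := Y.mul_mem (Y.mul_mem (Y.mul_mem hρ hτ) (Y.inv_mem hρ)) (Y.inv_mem hτ)
  have h2 : φ z = 1 := by
    rw [hz]
    simp only [map_mul, map_inv]
    rw [hc]; group
  have e0 : ρ * τ * ρ⁻¹ = z * τ := by rw [hz]; group
  have zρ : z * ρ = ρ * z := H.cent z h1 h2 ρ hρ
  have zτ : z * τ = τ * z := H.cent z h1 h2 τ hτ
  refine ⟨⟨h1, h2⟩, ?_, ?_⟩
  · -- ρ ^ k τ ρ ^ -k = z ^ k τ
    have e1 : ∀ k : ℕ, ρ ^ k * τ * (ρ ^ k)⁻¹ = z ^ k * τ := by
      intro k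
      induction k with
      | zero => simp
      | succ k ih =>
        have e2 : ρ * z ^ k = z ^ k * ρ := ((show Commute z ρ from zρ).pow_left k).eq.symm
        calc ρ ^ (k + 1) * τ * (ρ ^ (k + 1))⁻¹ = ρ * (ρ ^ k * τ * (ρ ^ k)⁻¹) * ρ⁻¹ := by rw [pow_succ']; group
          _ = (ρ * z ^ k) * τ * ρ⁻¹ := by rw [ih]; group
          _ = z ^ k * (ρ * τ * ρ⁻¹) := by rw [e2]; group
          _ = z ^ (k + 1) * τ := by rw [e0, pow_succ]; group
    have e3 := e1 (orderOf ρ)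
    rw [pow_orderOf_eq_one, one_mul, inv_one, mul_one] at e3
    exact (mul_eq_right.1 e3.symm)
  · have e1 : ∀ k : ℕ, (z * τ) ^ k = z ^ k * τ ^ k := fun k => (show Commute z τ from zτ).mul_pow k
    have h3 : φ (τ ^ orderOf (φ τ)) = 1 := by rw [map_pow, pow_orderOf_eq_one]
    have h4 := H.cent _ (Y.pow_mem hτ (orderOf (φ τ))) h3 ρ hρ
    have e4 : (ρ * τ * ρ⁻¹) ^ orderOf (φ τ) = τ ^ orderOf (φ τ) := by
      rw [conj_pow, ← h4]; group
    rw [e0, e1] at e4
    exact (mul_eq_right.1 e4)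

/-- the trace argument: `z ^ (2 |S|) = 1` -/
theorem Sit.trace {ρ τ : Γ} (hρ : ρ ∈ Y) (hτ : τ ∈ Y) (hc : φ ρ * φ τ = φ τ * φ ρ) (W : Subgroup Λ)
    (hWc : ∀ a ∈ W, ∀ b ∈ W, a * b = b * a) (hτW : φ τ ∈ W) (S : Subgroup Γ) [Finite S] (hSY : S ≤ Y)
    (hSW : ∀ s ∈ S, ∀ a ∈ W, φ s * a * (φ s)⁻¹ ∈ W) (hρS : ∀ s ∈ S, ρ * s * ρ⁻¹ ∈ S)
    (hfix : ∀ a ∈ W, (∀ s ∈ S, φ s * a * (φ s)⁻¹ = a) → a = 1) :
    (ρ * τ * ρ⁻¹ * τ⁻¹) ^ (2 * Nat.card S) = 1 := by
  classical
  have := Fintype.ofFinite S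
  obtain ⟨⟨h1, h2⟩, -, -⟩ := H.zpow hρ hτ hc
  set z := ρ * τ * ρ⁻¹ * τ⁻¹ with hz
  -- the subgroup
  let U : Subgroup Γ := Y ⊓ W.comap φ
  have hU : ∀ a ∈ U, ∀ b ∈ U, ∀ c ∈ U, (a * b * a⁻¹ * b⁻¹) * c = c * (a * b * a⁻¹ * b⁻¹) := by
    intro a ha b hb c hc'
    refine H.cent _ (Y.mul_mem (Y.mul_mem (Y.mul_mem ha.1 hb.1) (Y.inv_mem ha.1)) (Y.inv_mem hb.1)) ?_ c hc'.1
    have := hWc _ ha.2 _ hb.2
    simp only [map_mul, map_inv]
    rw [this]; group
  have hUS : ∀ s ∈ S, ∀ a ∈ U, s * a * s⁻¹ ∈ U := by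
    intro s hs a ha
    refine ⟨Y.mul_mem (Y.mul_mem (hSY hs) ha.1) (Y.inv_mem (hSY hs)), ?_⟩
    show φ (s * a * s⁻¹) ∈ W
    rw [map_mul, map_mul, map_inv]
    exact hSW s hs _ ha.2
  let lst : Γ → List Γ := fun a => (Finset.univ : Finset S).toList.map fun s : S => (s : Γ) * a * (s : Γ)⁻¹
  have hlst : ∀ a ∈ U, ∀ b ∈ lst a, b ∈ U := by
    intro a ha b hb
    obtain ⟨s, -, rfl⟩ := List.mem_map.1 hb
    exact hUS s s.2 a ha
  -- reindexing
  have hre : ∀ (f : S ≃ S) (g : S → Γ), ((Finset.univ : Finset S).toList.map fun s : S => g (f s)) ~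
      ((Finset.univ : Finset S).toList.map g) := by
    intro f g
    have e1 : ((Finset.univ : Finset S).toList.map fun s : S => g (f s)) =
        (((Finset.univ : Finset S).toList.map f).map g) := by rw [List.map_map]; rfl
    rw [e1]
    refine List.Perm.map g ?_
    refine (List.perm_ext_iff_of_nodup ?_ (Finset.nodup_toList _)).2 ?_
    · exact (Finset.nodup_toList _).map f.injective
    · intro s
      simp only [List.mem_map, Finset.mem_toList, Finset.mem_univ, true_and, iff_true]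
      exact ⟨f.symm s, f.apply_symm_apply s⟩
  -- conjugation
  have hconj : ∀ g : Γ, (∀ s ∈ S, g * s * g⁻¹ ∈ S) → ∀ a ∈ U, g * a * g⁻¹ ∈ U →
      sp (lst (g * a * g⁻¹)) = g * sp (lst a) * g⁻¹ := by
    intro g hg a ha hga
    rw [← sp_map_conj]
    have hinj : Function.Injective (fun s : S => (⟨g * s * g⁻¹, hg s s.2⟩ : S)) := by
      intro s t hst
      have := congrArg Subtype.val hst
      simp only at this
      exact Subtype.ext (by simpa using this)
    let f : S ≃ S := Equiv.ofBijective _ (Finite.injective_iff_bijective.1 hinj)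
    have e1 : (lst a).map (fun b => g * b * g⁻¹) =
        (Finset.univ : Finset S).toList.map fun s : S => ((f s : S) : Γ) * (g * a * g⁻¹) * ((f s : S) : Γ)⁻¹ := by
      show ((Finset.univ : Finset S).toList.map _).map _ = _
      rw [List.map_map]
      refine List.map_congr_left fun s _ => ?_
      show g * ((s : Γ) * a * (s : Γ)⁻¹) * g⁻¹ = (g * s * g⁻¹) * (g * a * g⁻¹) * (g * s * g⁻¹)⁻¹
      group
    rw [e1]
    exact sp_perm U hU (hre f fun s : S => (s : Γ) * (g * a * g⁻¹) * (s : Γ)⁻¹).symm (hlst _ hga)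
  have hτU : τ ∈ U := ⟨hτ, hτW⟩
  -- `F(τ)` commutes with `S`
  have hS : ∀ s ∈ S, s * sp (lst τ) * s⁻¹ = sp (lst τ) := by
    intro s hs
    rw [← hconj s (fun t ht => S.mul_mem (S.mul_mem hs ht) (S.inv_mem hs)) τ hτU (hUS s hs τ hτU)]
    have e1 : lst (s * τ * s⁻¹) = (Finset.univ : Finset S).toList.map fun t : S =>
        ((Equiv.mulRight (⟨s, hs⟩ : S) t : S) : Γ) * τ * ((Equiv.mulRight (⟨s, hs⟩ : S) t : S) : Γ)⁻¹ := by
      refine List.map_congr_left fun t _ => ?_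
      show (t : Γ) * (s * τ * s⁻¹) * (t : Γ)⁻¹ = ((t : Γ) * s) * τ * ((t : Γ) * s)⁻¹
      group
    rw [e1]
    refine sp_perm U hU (hre (Equiv.mulRight (⟨s, hs⟩ : S)) fun t : S => (t : Γ) * τ * (t : Γ)⁻¹) ?_
    intro b hb
    obtain ⟨t, -, rfl⟩ := List.mem_map.1 hb
    exact hUS _ (Subtype.mem _) τ hτU
  have hFU : sp (lst τ) ∈ U := sp_mem U (hlst τ hτU)
  have hF1 : φ (sp (lst τ)) = 1 := by
    refine hfix _ hFU.2 fun s hs => ?_
    rw [← map_mul, ← map_inv, ← map_mul, hS s hs]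
  have hρF : ρ * sp (lst τ) * ρ⁻¹ = sp (lst τ) := by
    rw [← H.cent _ hFU.1 hF1 ρ hρ]; group
  have e0 : ρ * τ * ρ⁻¹ = z * τ := by rw [hz]; group
  have hzU : z * τ ∈ U := by
    refine ⟨Y.mul_mem h1 hτ, ?_⟩
    show φ (z * τ) ∈ W
    rw [map_mul, h2, one_mul]
    exact hτW
  have hzcent : ∀ a ∈ U, z * a = a * z := fun a ha => H.cent z h1 h2 a ha.1
  have e2 := hconj ρ hρS τ hτU (by rw [e0]; exact hzU)
  rw [hρF, e0] at e2
  have e3 : lst (z * τ) = (lst τ).map fun a => z * a := by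
    show _ = ((Finset.univ : Finset S).toList.map _).map _
    rw [List.map_map]
    refine List.map_congr_left fun s _ => ?_
    show (s : Γ) * (z * τ) * (s : Γ)⁻¹ = z * ((s : Γ) * τ * (s : Γ)⁻¹)
    have h5 : z * (s : Γ) = (s : Γ) * z := H.cent z h1 h2 s (hSY s.2)
    calc (s : Γ) * (z * τ) * (s : Γ)⁻¹ = ((s : Γ) * z) * τ * (s : Γ)⁻¹ := by group
      _ = (z * s) * τ * (s : Γ)⁻¹ := by rw [h5]
      _ = _ := by group
  rw [e3, sp_map_mul U z hzcent _ (hlst τ hτU)] at e2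
  have e4 : (lst τ).length = Nat.card S := by
    show ((Finset.univ : Finset S).toList.map _).length = _
    rw [List.length_map, Finset.length_toList, Finset.card_univ, Nat.card_eq_fintype_card]
  rw [e4] at e2
  exact mul_eq_right.1 e2

end Sit

end Cfsg.Agent.H523.KA.Abs
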