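import Mathlib

/-!
# S3414, key lemma: 2-transitive groups with a regular abelian normal subgroup
-/

set_option autoImplicit false

namespace Cfsg.Agent.H523.KA.Perm

open Equiv

universe v

variable {Ω : Type v}

/-- `W` is a regular abelian normal subgroup of `L` -/
structure AffD (L W : Subgroup (Perm Ω)) : Prop where
  le : W ≤ L
  conj : ∀ σ ∈ L, ∀ w ∈ W, σ * w * σ⁻¹ ∈ W
  comm : ∀ a ∈ W, ∀ b ∈ W, a * b = b * a
  trans : ∀ a b : Ω, ∃ w ∈ W, w a = b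
  reg : ∀ w ∈ W, ∀ a : Ω, w a = a → w = 1

theorem AffD.of {L : Subgroup (Perm Ω)} (h : ∃ W : Subgroup (Equiv.Perm Ω), W ≤ L ∧ (W.subgroupOf L).Normal ∧
    IsMulCommutative W ∧ MulAction.IsPretransitive W Ω ∧ ∀ a : Ω, MulAction.stabilizer W a = ⊥) :
    ∃ W : Subgroup (Perm Ω), AffD L W := by
  obtain ⟨W, h1, h2, h3, h4, h5⟩ := h
  refine ⟨W, h1, ?_, ?_, ?_, ?_⟩
  · intro σ hσ w hw
    have := h2.conj_mem (⟨w, h1 hw⟩ : L) hw ⟨σ, hσ⟩
    exact this
  · intro a ha b hb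
    have := h3.is_comm.comm (⟨a, ha⟩ : W) ⟨b, hb⟩
    exact congrArg Subtype.val this
  · intro a b
    obtain ⟨w, hw⟩ := h4.exists_smul_eq a b
    exact ⟨w, w.2, hw⟩
  · intro w hw a ha
    have h6 : (⟨w, hw⟩ : W) ∈ MulAction.stabilizer W a := ha
    rw [h5 a, Subgroup.mem_bot] at h6
    exact congrArg Subtype.val h6

section AffD

variable {L W : Subgroup (Perm Ω)} (h : AffD L W)

include h

theorem AffD.eq {u v : Perm Ω} (hu : u ∈ W) (hv : v ∈ W) {a : Ω} (e : u a = v a) : u = v := by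
  have h1 : v⁻¹ * u = 1 := h.reg _ (W.mul_mem (W.inv_mem hv) hu) a (by
    rw [Perm.mul_apply, e, Perm.inv_eq_iff_eq])
  rw [inv_mul_eq_one] at h1
  exact h1.symm

/-- a permutation commuting with `W` and fixing a point is trivial -/
theorem AffD.eq_one {s : Perm Ω} (hs : ∀ w ∈ W, s * w = w * s) {a : Ω} (ha : s a = a) : s = 1 := by
  ext b
  obtain ⟨w, hw, rfl⟩ := h.trans a b
  have := congrArg (fun σ : Perm Ω => σ a) (hs w hw)
  simp only [Perm.mul_apply, ha] at this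
  rw [this, Perm.one_apply]

/-- a permutation commuting with `W` is in `W` -/
theorem AffD.mem {s : Perm Ω} (hs : ∀ w ∈ W, s * w = w * s) (a : Ω) : s ∈ W := by
  obtain ⟨w, hw, e⟩ := h.trans a (s a)
  have h1 : w⁻¹ * s = 1 := by
    refine h.eq_one (a := a) ?_ ?_
    · intro u hu
      have h2 := h.comm _ (W.inv_mem hw) u hu
      rw [mul_assoc, hs u hu, ← mul_assoc, h2, mul_assoc]
    · rw [Perm.mul_apply, ← e, Perm.inv_eq_iff_eq]
  rw [inv_mul_eq_one] at h1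
  rw [← h1]; exact hw

/-- an element of `L` fixing `a` and `u a` commutes with `u` -/
theorem AffD.comm_of_fix {s u : Perm Ω} (hs : s ∈ L) (hu : u ∈ W) {a : Ω} (ha : s a = a) (hb : s (u a) = u a) :
    s * u = u * s := by
  have h1 : s * u * s⁻¹ = u := by
    refine h.eq (h.conj s hs u hu) hu (a := a) ?_
    have : s⁻¹ a = a := by rw [Perm.inv_eq_iff_eq]; exact ha.symm
    rw [Perm.mul_apply, Perm.mul_apply, this, hb]
  rw [mul_inv_eq_iff_eq_mul] at h1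
  exact h1

variable (h2 : ∀ a b a' b' : Ω, a ≠ b → a' ≠ b' → ∃ g ∈ L, g a = a' ∧ g b = b')

include h2

/-- the stabilizer of `a` is transitive on `W - 1` -/
theorem AffD.conj_eq (a : Ω) {u v : Perm Ω} (hu : u ∈ W) (hv : v ∈ W) (hu1 : u ≠ 1) (hv1 : v ≠ 1) :
    ∃ g ∈ L, g a = a ∧ g * u * g⁻¹ = v := by
  have h3 : a ≠ u a := fun e => hu1 (h.reg u hu a e.symm)
  have h4 : a ≠ v a := fun e => hv1 (h.reg v hv a e.symm)
  obtain ⟨g, hg, e1, e2⟩ := h2 a (u a) a (v a) h3 h4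
  refine ⟨g, hg, e1, h.eq (h.conj g hg u hu) hv (a := a) ?_⟩
  have : g⁻¹ a = a := by rw [Perm.inv_eq_iff_eq]; exact e1.symm
  rw [Perm.mul_apply, Perm.mul_apply, this, e2]

theorem AffD.le_of_normal [Nonempty Ω] {N : Subgroup (Perm Ω)} (hNL : N ≤ L) (hN : ∀ σ ∈ L, ∀ n ∈ N, σ * n * σ⁻¹ ∈ N)
    (hN1 : N ≠ ⊥) : W ≤ N := by
  obtain ⟨a⟩ := (inferInstance : Nonempty Ω)
  -- a nontrivial element of `N ⊓ W`
  obtain ⟨n, hn1⟩ := Subgroup.ne_bot_iff_exists_ne_one.1 hN1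
  have h3 : ∃ u ∈ W, u ∈ N ∧ u ≠ 1 := by
    by_cases hc : ∀ w ∈ W, n.1 * w = w * n.1
    · exact ⟨n.1, h.mem hc a, n.2, fun e => hn1 (Subtype.ext e)⟩
    · push Not at hc
      obtain ⟨w, hw, hne⟩ := hc
      refine ⟨n.1 * w * n.1⁻¹ * w⁻¹, W.mul_mem (h.conj _ (hNL n.2) w hw) (W.inv_mem hw), ?_, ?_⟩
      · have h4 := hN w (h.le hw) _ (N.inv_mem n.2)
        have h5 := N.mul_mem n.2 h4
        have e : n.1 * (w * n.1⁻¹ * w⁻¹) = n.1 * w * n.1⁻¹ * w⁻¹ := by group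
        rwa [e] at h5
      · intro e
        rw [mul_inv_eq_one, mul_inv_eq_iff_eq_mul] at e
        exact hne e
  obtain ⟨u, hu, huN, hu1⟩ := h3
  intro v hv
  by_cases hv1 : v = 1
  · rw [hv1]; exact N.one_mem
  · obtain ⟨g, hg, -, e⟩ := h.conj_eq h2 a hu hv hu1 hv1
    rw [← e]
    exact hN g hg u huN

theorem AffD.orderOf_eq [Nonempty Ω] {u v : Perm Ω} (hu : u ∈ W) (hv : v ∈ W) (hu1 : u ≠ 1) (hv1 : v ≠ 1) :
    orderOf u = orderOf v := by
  obtain ⟨a⟩ := (inferInstance : Nonempty Ω)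
  obtain ⟨g, -, -, e⟩ := h.conj_eq h2 a hu hv hu1 hv1
  rw [← e]
  exact (orderOf_injective (MulAut.conj g).toMonoidHom (MulAut.conj g).injective u).symm

/-- if a prime divides the order of an element of `W` then it is the order -/
theorem AffD.orderOf_prime [Nonempty Ω] [Finite Ω] {u : Perm Ω} (hu : u ∈ W) {r : ℕ} (hr : r.Prime)
    (hd : r ∣ orderOf u) : orderOf u = r := by
  have h0 : 0 < orderOf u := orderOf_pos u
  have h3 : orderOf (u ^ (orderOf u / r)) = r := by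
    rw [orderOf_pow_of_dvd (Nat.div_pos (Nat.le_of_dvd h0 hd) hr.pos).ne' (Nat.div_dvd_of_dvd hd)]
    exact Nat.div_div_self hd h0.ne'
  have h4 : u ^ (orderOf u / r) ≠ 1 := by
    intro e
    rw [e, orderOf_one] at h3
    exact hr.one_lt.ne h3
  have h5 : u ≠ 1 := by
    rintro rfl
    rw [one_pow] at h4
    exact h4 rfl
  rw [← h3]
  exact h.orderOf_eq h2 hu (W.pow_mem hu _) h5 h4

/-- a nontrivial subgroup fixing `a` and normalised by the stabilizer of `a` centralises no nontrivial element of `W` -/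
theorem AffD.fix {S : Subgroup (Perm Ω)} {a : Ω} (hS : ∀ s ∈ S, s a = a)
    (hn : ∀ g ∈ L, g a = a → ∀ s ∈ S, g * s * g⁻¹ ∈ S) (hS1 : S ≠ ⊥) {u : Perm Ω} (hu : u ∈ W)
    (hc : ∀ s ∈ S, s * u * s⁻¹ = u) : u = 1 := by
  by_contra hu1
  apply hS1
  rw [Subgroup.eq_bot_iff_forall]
  intro s hs
  refine h.eq_one (a := a) ?_ (hS s hs)
  intro w hw
  by_cases hw1 : w = 1
  · rw [hw1, mul_one, one_mul]
  · obtain ⟨g, hg, ha, e⟩ := h.conj_eq h2 a hu hw hu1 hw1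
    have hgi : g⁻¹ a = a := by rw [Perm.inv_eq_iff_eq]; exact ha.symm
    have h5 := hn g⁻¹ (L.inv_mem hg) hgi s hs
    rw [inv_inv] at h5
    have h6 := hc _ h5
    -- (g⁻¹ s g) u (g⁻¹ s g)⁻¹ = u
    have h7 : s * w * s⁻¹ = w := by
      calc s * w * s⁻¹ = g * ((g⁻¹ * s * g) * u * (g⁻¹ * s * g)⁻¹) * g⁻¹ := by rw [← e]; group
        _ = g * u * g⁻¹ := by rw [h6]
        _ = w := e
    rw [mul_inv_eq_iff_eq_mul] at h7
    exact h7

end AffD

theorem AffD.card {L W : Subgroup (Perm Ω)} (h : AffD L W) (a : Ω) : Nat.card W = Nat.card Ω := by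
  refine Nat.card_congr (Equiv.ofBijective (fun w : W => w.1 a) ⟨?_, ?_⟩)
  · intro u v e
    exact Subtype.ext (h.eq u.2 v.2 e)
  · intro b
    obtain ⟨w, hw, e⟩ := h.trans a b
    exact ⟨⟨w, hw⟩, e⟩

theorem AffD.orderOf_dvd {L W : Subgroup (Perm Ω)} (h : AffD L W) (a : Ω) {u : Perm Ω} (hu : u ∈ W) :
    orderOf u ∣ Nat.card Ω := by
  rw [← h.card a, ← Subgroup.orderOf_mk u hu]
  exact orderOf_dvd_natCard _

end Cfsg.Agent.H523.KA.Perm
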