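import Cfsg.Agent.H523.KA.Base
import Cfsg.Agent.H523.KA.Abs
import Cfsg.Agent.H523.KA.Perm

/-!
# S3414, key lemma, affine case and easy case
-/

set_option autoImplicit false

namespace Cfsg.Agent.H523.KA.Aff

open Cfsg Cfsg.Agent.H873.Tits Cfsg.Agent.H523.KA.Base Cfsg.Agent.H523.KA.Abs Cfsg.Agent.H523.KA.Perm

universe u v

variable {G : Type u} [Group G] {V : Type v} [MulAction G V] {P : Pol G V} {p : ℕ}

theorem sit (hA : CaseA P p) (y : V) : Sit (act P p y) (Y P p y) where
  cent z _ h1 a ha := (Y_comm hA y a ha z ((act_eq_one P p).1 h1)).symm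

theorem two (F : Facts P) (y : V) : ∀ a b a' b' : {w : V // P.adj y w}, a ≠ b → a' ≠ b' →
    ∃ g ∈ P.L y, g a = a' ∧ g b = b' := by
  intro a b a' b' h h'
  obtain ⟨g, hg, e1, e2⟩ := F.two_trans a.2 b.2 (fun e => h (Subtype.ext e)) a'.2 b'.2 (fun e => h' (Subtype.ext e))
  exact ⟨P.toPerm y ⟨g, hg⟩, (mem_L P).2 ⟨_, rfl⟩, Subtype.ext e1, Subtype.ext e2⟩

/-- the regular normal subgroup is in the image of `Y` -/
theorem W_le (F : Facts P) (hA : CaseA P p) {x y : V} (hxy : P.adj x y) {W : Subgroup (Equiv.Perm {w : V // P.adj y w})}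
    (h : AffD (P.L y) W) : W ≤ (Y P p y).map (act P p y) := by
  have : Nonempty {w : V // P.adj y w} := ⟨⟨x, P.symm hxy⟩⟩
  refine h.le_of_normal (two F y) ?_ ?_ ?_
  · rintro _ ⟨b, -, rfl⟩
    exact act_mem_L P p y b
  · rintro σ hσ _ ⟨b, hb, rfl⟩
    obtain ⟨s, rfl⟩ := exists_act P p hσ
    exact ⟨s * b * s⁻¹, Y_conj P p y s hb, by simp⟩
  · intro e
    obtain ⟨a, ha, hay⟩ := exists_mem_Q hA (P.symm hxy)
    have h1 : a ∈ P.K x := Q_le_K P p x ha
    have h2 : a ∈ P.S y := K_le_S_adj P hxy h1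
    have h3 : act P p y (pi P p y ⟨a, h2⟩) ∈ (Y P p y).map (act P p y) :=
      ⟨_, im_le_Y P p (P.symm hxy) ⟨⟨a, h2⟩, h1, rfl⟩, rfl⟩
    rw [e, Subgroup.mem_bot, act_pi, toPerm_eq_one] at h3
    exact hay h3

/-- **K1 + K3, elementwise**: an `r`-element of `K x ⊓ S w` is in `K w`. -/
theorem mem_K [Finite G] [Finite V] (F : Facts P) (hA : CaseA P p) {x y w : V} (hxy : P.adj x y) (hyw : P.adj y w)
    {r : ℕ} (hr : r.Prime) (hrp : r ≠ p) (hL : Aff (P.L y))
    (h2 : r ≠ 2 ∨ ¬ 2 ∣ P.q (P.tp y) + 1 ∨ ¬ 2 ∣ Nat.card ↥(P.K y)) {g : G} (hg : g ∈ P.K x) (hgw : g ∈ P.S w) {n : ℕ}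
    (hgr : orderOf g = r ^ n) : g ∈ P.K w := by
  classical
  obtain ⟨W, hW⟩ := AffD.of hL
  have hne : Nonempty {w : V // P.adj y w} := ⟨⟨x, P.symm hxy⟩⟩
  set x₁ : {w : V // P.adj y w} := ⟨x, P.symm hxy⟩ with hx₁
  set w₁ : {w : V // P.adj y w} := ⟨w, hyw⟩ with hw₁
  have hgy : g ∈ P.S y := K_le_S_adj P hxy hg
  obtain ⟨t, htW, ht⟩ := hW.trans x₁ w₁
  obtain ⟨τ, hτ, hτt⟩ := W_le F hA hxy hW htW
  set ρ := pi P p y ⟨g, hgy⟩ with hρ
  have hρY : ρ ∈ Y P p y := im_le_Y P p (P.symm hxy) ⟨⟨g, hgy⟩, hg, rfl⟩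
  have hρx : act P p y ρ x₁ = x₁ := Subtype.ext hg.1
  have hρw : act P p y ρ w₁ = w₁ := Subtype.ext hgw
  have hc : act P p y ρ * act P p y τ = act P p y τ * act P p y ρ := by
    rw [hτt]
    exact hW.comm_of_fix (act_mem_L P p y ρ) htW hρx (by rw [ht]; exact hρw)
  have S := sit hA y
  obtain ⟨⟨z1, z2⟩, z3, z4⟩ := S.zpow hρY hτ hc
  rw [hτt] at z4
  obtain ⟨z, hz⟩ : ∃ z, z = ρ * τ * ρ⁻¹ * τ⁻¹ := ⟨_, rfl⟩
  rw [← hz] at z1 z2 z3 z4
  -- the order of z is a power of r
  have hρo : orderOf ρ ∣ r ^ n := by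
    rw [← hgr, ← Subgroup.orderOf_mk g hgy]
    exact orderOf_map_dvd _ _
  have zo : orderOf z ∣ r ^ n := (orderOf_dvd_of_pow_eq_one z3).trans hρo
  have key : z = 1 := by
    by_cases hrt : r ∣ orderOf t
    · have hto : orderOf t = r := hW.orderOf_prime (two F y) htW hr hrt
      by_cases hr2 : r = 2
      · subst hr2
        rcases h2 with h2 | h2 | h2
        · exact absurd rfl h2
        · exfalso
          apply h2
          rw [← P.card_nb y]
          exact hrt.trans (hW.orderOf_dvd x₁ htW)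
        · -- z is in the image of K y
          obtain ⟨k, hk, e⟩ := (act_eq_one P p).1 z2
          have h5 : orderOf z ∣ Nat.card ↥(P.K y) := by
            rw [← e]
            refine (orderOf_map_dvd _ _).trans ?_
            rw [← Subgroup.orderOf_coe k, ← Subgroup.orderOf_mk (k : G) (show (k : G) ∈ P.K y from hk)]
            exact orderOf_dvd_natCard _
          have h6 : Nat.Coprime (2 ^ n) (Nat.card ↥(P.K y)) :=
            Nat.Coprime.pow_left n ((Nat.Prime.coprime_iff_not_dvd Nat.prime_two).2 h2)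
          rw [← orderOf_eq_one_iff]
          exact Nat.eq_one_of_dvd_coprimes h6 zo h5
      · -- the trace argument
        let T : Subgroup (Sb P p y) := im P p y (Q P p x)
        have hTY : T ≤ Y P p y := (im_mono P p (Q_le_K P p x)).trans (im_le_Y P p (P.symm hxy))
        have hTp : IsPGroup p ↥T := by
          have h5 : IsPGroup p ↥((Q P p x).subgroupOf (P.S y)) := (isPGroup_Q P p x).comap_subtype
          exact h5.map _
        -- normalised by the stabilizer of x
        have hTn : ∀ b : Sb P p y, act P p y b x₁ = x₁ → ∀ s ∈ T, b * s * b⁻¹ ∈ T := by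
          intro b hb s hs
          obtain ⟨b, rfl⟩ := pi_surjective P p y b
          obtain ⟨q, hq, rfl⟩ := hs
          have hbx : (b : G) • x = x := congrArg Subtype.val hb
          refine ⟨b * q * b⁻¹, ?_, by simp⟩
          have h6 := conj_mem_Q P p (b : G) (show (q : G) ∈ Q P p x from hq)
          rwa [hbx] at h6
        have hTx : ∀ s ∈ T, act P p y s x₁ = x₁ := by
          rintro _ ⟨q, hq, rfl⟩
          exact Subtype.ext (Q_le_S P p x hq)
        have h5 := S.trace hρY hτ hc W hW.comm (by rw [hτt]; exact htW) T hTY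
          (fun s _ a ha => hW.conj _ (act_mem_L P p y s) a ha) (fun s hs => hTn ρ hρx s hs) (by
            intro a ha hfix
            refine hW.fix (two F y) (S := T.map (act P p y)) (a := x₁) ?_ ?_ ?_ ha ?_
            · rintro _ ⟨s, hs, rfl⟩
              exact hTx s hs
            · rintro σ hσ hσx _ ⟨s, hs, rfl⟩
              obtain ⟨b, rfl⟩ := exists_act P p hσ
              exact ⟨b * s * b⁻¹, hTn b hσx s hs, by simp⟩
            · intro e
              obtain ⟨q, hq, hqy⟩ := exists_mem_Q hA (P.symm hxy)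
              have h6 : q ∈ P.S y := K_le_S_adj P hxy (Q_le_K P p x hq)
              have h7 : act P p y (pi P p y ⟨q, h6⟩) ∈ T.map (act P p y) := ⟨_, ⟨⟨q, h6⟩, hq, rfl⟩, rfl⟩
              rw [e, Subgroup.mem_bot, act_pi, toPerm_eq_one] at h7
              exact hqy h7
            · rintro _ ⟨s, hs, rfl⟩
              exact hfix s hs)
        rw [← hz] at h5
        have h6 := orderOf_dvd_of_pow_eq_one h5
        have : Fact p.Prime := ⟨hA.prime⟩
        obtain ⟨m, hm⟩ := IsPGroup.iff_card.1 hTp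
        rw [hm] at h6
        have h7 : Nat.Coprime (r ^ n) (2 * p ^ m) := by
          refine Nat.Coprime.pow_left n (Nat.Coprime.mul_right ?_ (Nat.Coprime.pow_right m ?_))
          · exact (Nat.coprime_primes hr Nat.prime_two).2 hr2
          · exact (Nat.coprime_primes hr hA.prime).2 hrp
        rw [← orderOf_eq_one_iff]
        exact Nat.eq_one_of_dvd_coprimes h7 zo h6
    · have h5 := orderOf_dvd_of_pow_eq_one z4
      have h6 : Nat.Coprime (r ^ n) (orderOf t) := Nat.Coprime.pow_left n ((Nat.Prime.coprime_iff_not_dvd hr).2 hrt)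
      rw [← orderOf_eq_one_iff]
      exact Nat.eq_one_of_dvd_coprimes h6 zo h5
  -- ρ = τ ρ τ⁻¹
  have h8 : ρ = τ * ρ * τ⁻¹ := by
    rw [hz] at key
    rw [mul_inv_eq_one, mul_inv_eq_iff_eq_mul] at key
    rw [eq_mul_inv_iff_mul_eq]
    exact key
  obtain ⟨b, rfl⟩ := pi_surjective P p y τ
  have hbx : (b : G) • x = w := by
    have h9 : act P p y (pi P p y b) x₁ = w₁ := by rw [hτt]; exact ht
    exact congrArg Subtype.val h9
  have h10 := conj_im P p b (show ρ ∈ im P p y (P.K x) from ⟨⟨g, hgy⟩, hg, rfl⟩)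
  rw [← h8, hbx] at h10
  refine mem_K_of_im P (g := ⟨g, hgy⟩) hyw ?_ h10
  show (orderOf g).Coprime p
  rw [hgr]
  exact Nat.Coprime.pow_left n ((Nat.coprime_primes hr hA.prime).2 hrp)

/-- an `r`-subgroup criterion: if all elements of order a power of `r` of `A` lie in `B` then `|A|_r ≤ |B|_r` -/
theorem factorization_le [Finite G] {A B : Subgroup G} {r : ℕ} (hr : r.Prime)
    (h : ∀ g ∈ A, ∀ n : ℕ, orderOf g = r ^ n → g ∈ B) :
    (Nat.card A).factorization r ≤ (Nat.card B).factorization r := by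
  have : Fact r.Prime := ⟨hr⟩
  obtain ⟨R⟩ : Nonempty (Sylow r A) := inferInstance
  have h1 : (R : Subgroup A).map A.subtype ≤ B := by
    rintro _ ⟨a, ha, rfl⟩
    obtain ⟨n, hn⟩ := (IsPGroup.iff_orderOf.1 R.2) ⟨a, ha⟩
    rw [Subgroup.orderOf_mk] at hn
    refine h a a.2 n ?_
    rw [Subgroup.orderOf_coe]
    exact hn
  have h2 : Nat.card ↥((R : Subgroup A).map A.subtype) = r ^ (Nat.card A).factorization r := by
    rw [Subgroup.card_map_of_injective A.subtype_injective]
    exact R.card_eq_multiplicity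
  have h3 := Subgroup.card_dvd_of_le h1
  rw [h2] at h3
  exact (hr.pow_dvd_iff_le_factorization Nat.card_pos.ne').1 h3

theorem factorization_mono [Finite G] {A B : Subgroup G} (hBA : B ≤ A) (r : ℕ) :
    (Nat.card B).factorization r ≤ (Nat.card A).factorization r :=
  (Nat.factorization_le_iff_dvd Nat.card_pos.ne' Nat.card_pos.ne').2 (Subgroup.card_dvd_of_le hBA) r

/-- from `K x ⊓ S w` to the parameter -/
theorem of_factorization [Finite G] [Finite V] (F : Facts P) {x x' y w : V} (hxy : P.adj x y) (hyw : P.adj y w)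
    (hxw : x ≠ w) (hop : P.Opp x x') {r : ℕ} (hr : r.Prime)
    (h : (Nat.card ↥(P.K x ⊓ P.S w)).factorization r ≤ (Nat.card ↥(P.K x ⊓ P.K w)).factorization r) :
    (P.q (P.tp x)).factorization r ≤ (P.idx x x').factorization r := by
  obtain ⟨q, hq, rfl, rfl, rfl⟩ := F.extend3 hxy hyw hxw
  have h1 := F.count_main (i := 1) (x' := x') hr hq (by rcases P.hn with h | h | h <;> omega) hop
  have h2 := factorization_mono (show P.K (q 1) ⊓ P.K (q 3) ⊓ P.H q ≤ P.K (q 1) ⊓ P.H q from
    le_inf (inf_le_left.trans inf_le_left) inf_le_right) r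
  have h3 : (P.q (P.tp (q 1))).factorization r + (Nat.card ↥(P.K (q 1) ⊓ P.H q)).factorization r +
      (Nat.card ↥(P.K (q 1) ⊓ P.K (q 3))).factorization r ≤
    (Nat.card ↥(P.K (q 1) ⊓ P.S (q 3))).factorization r + (P.idx (q 1) x').factorization r +
      (Nat.card ↥(P.K (q 1) ⊓ P.K (q 3) ⊓ P.H q)).factorization r := h1
  omega

theorem exists_other {y x : V} (P : Pol G V) (_ : P.adj y x) : ∃ w, P.adj y w ∧ x ≠ w := by
  by_contra hc
  push Not at hc
  have h1 : Nat.card {w : V // P.adj y w} ≤ 1 := by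
    have : Subsingleton {w : V // P.adj y w} := ⟨fun a b => Subtype.ext ((hc _ a.2).symm.trans (hc _ b.2))⟩
    exact Finite.card_le_one_iff_subsingleton.2 this
  rw [P.card_nb] at h1
  have := P.two_le (P.tp y)
  omega

end Cfsg.Agent.H523.KA.Aff

namespace Cfsg.Agent.H523.KA

open Cfsg Cfsg.Agent.H873.Tits Cfsg.Agent.H523.KA.Base Cfsg.Agent.H523.KA.Abs Cfsg.Agent.H523.KA.Perm Cfsg.Agent.H523.KA.Aff

universe u v

/-- **K1 + K3** -/
theorem st_key_aff : StKeyAff.{u, v} := by
  intro G _ _ V _ _ P F p hA x y x' hxy hop r hr hrp hL h2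
  obtain ⟨w, hyw, hxw⟩ := exists_other P (P.symm hxy)
  refine of_factorization F hxy hyw hxw hop hr ?_
  refine factorization_le hr ?_
  intro g hg n hn
  exact ⟨hg.1, mem_K F hA hxy hyw hr hrp hL h2 hg.1 hg.2 hn⟩

/-- **K0** -/
theorem st_key_easy : StKeyEasy.{u, v} := by
  intro G _ _ V _ _ P F p hA x y y' z hxy hxz hyz hop r hr hrp hri
  have : Fact r.Prime := ⟨hr⟩
  set s := P.q (P.tp x) with hs
  set t := P.q (P.tp y) with ht
  have hs2 : 2 ≤ s := P.two_le _
  have ht2 : 2 ≤ t := P.two_le _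
  have htp : P.q (!P.tp y) = s := by rw [P.tp_adj hxy, Bool.not_not]
  have h1 := F.count_opp hop
  rw [htp, ← ht] at h1
  -- the index of `K y ⊓ S z` divides `s`
  have h2 := F.relIndex_dvd (P.symm hxy) (P.symm hxz) hyz
  rw [← hs] at h2
  set A : Subgroup G := P.K y ⊓ P.S z with hA'
  have h3 : Nat.card A * A.relIndex (P.K y) = Nat.card (P.K y) := by
    have := Subgroup.relIndex_mul_relIndex ⊥ A (P.K y) bot_le inf_le_left
    simpa [Subgroup.relIndex_bot_left] using this
  have hK0 : Nat.card (P.K y) ≠ 0 := Nat.card_pos.ne'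
  have hA0 : Nat.card A ≠ 0 := Nat.card_pos.ne'
  have hi0 : A.relIndex (P.K y) ≠ 0 := fun e => hK0 (by rw [← h3, e, mul_zero])
  have hx0 : P.idx y y' ≠ 0 := by
    intro e
    rw [e, zero_mul] at h1
    have h4 : 0 < t ^ (P.n / 2 - 1) * s ^ (P.n / 2) * Nat.card ↥(P.K y ⊓ P.S y') :=
      Nat.mul_pos (Nat.mul_pos (Nat.pow_pos (by omega)) (Nat.pow_pos (by omega))) Nat.card_pos
    omega
  -- factorizations
  have f1 : (Nat.card (P.K y)).factorization r = (P.n / 2 - 1) * t.factorization r + (P.n / 2) * s.factorization r +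
      (Nat.card ↥(P.K y ⊓ P.S y')).factorization r := by
    have h4 := congrArg (fun n : ℕ => n.factorization r) h1
    rw [Nat.factorization_mul hx0 hK0, Nat.factorization_mul
        (Nat.mul_pos (Nat.pow_pos (by omega)) (Nat.pow_pos (by omega))).ne' Nat.card_pos.ne',
      Nat.factorization_mul (Nat.pow_pos (by omega)).ne' (Nat.pow_pos (by omega)).ne', Nat.factorization_pow,
      Nat.factorization_pow] at h4
    simp only [Finsupp.add_apply, Finsupp.smul_apply, smul_eq_mul] at h4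
    rw [Nat.factorization_eq_zero_of_not_dvd hri, zero_add] at h4
    exact h4
  have f2 : (Nat.card (P.K y)).factorization r = (Nat.card A).factorization r + (A.relIndex (P.K y)).factorization r := by
    rw [← h3, Nat.factorization_mul hA0 hi0, Finsupp.add_apply]
  have f3 : (A.relIndex (P.K y)).factorization r ≤ s.factorization r :=
    (Nat.factorization_le_iff_dvd hi0 (by omega)).2 h2 r
  -- the image in the local group
  have hAx : A ≤ P.S x := inf_le_left.trans (K_le_S_adj P (P.symm hxy))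
  let f : A →* Equiv.Perm {w : V // P.adj x w} := (P.toPerm x).comp (Subgroup.inclusion hAx)
  have f4 : f.range ≤ P.img x (P.S y ⊓ P.S z) := by
    rintro _ ⟨a, rfl⟩
    refine ⟨⟨a, hAx a.2⟩, ?_, rfl⟩
    exact ⟨P.K_le_S y a.2.1, a.2.2⟩
  have f5 : IsPGroup p ↥f.ker := by
    have h5 : ∀ a : f.ker, ((a : A) : G) ∈ P.K x ⊓ P.K y := by
      intro a
      refine ⟨?_, a.1.2.1⟩
      have h6 : P.toPerm x ⟨((a : A) : G), hAx a.1.2⟩ = 1 := a.2
      exact (toPerm_eq_one P).1 h6
    refine (hA.pgroup hxy).of_injective (⟨⟨fun a => ⟨((a : A) : G), h5 a⟩, rfl⟩, fun _ _ => rfl⟩ :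
      f.ker →* ↥(P.K x ⊓ P.K y)) ?_
    intro a b e
    have h7 : ((a : A) : G) = ((b : A) : G) := congrArg (fun c : ↥(P.K x ⊓ P.K y) => (c : G)) e
    exact Subtype.ext (Subtype.ext h7)
  have f6 : (Nat.card A).factorization r = (Nat.card f.range).factorization r := by
    have h5 := f.ker.card_mul_index
    rw [Subgroup.index_ker] at h5
    have : Fact p.Prime := ⟨hA.prime⟩
    obtain ⟨m, hm⟩ := IsPGroup.iff_card.1 f5
    rw [← h5, hm, Nat.factorization_mul (pow_pos hA.prime.pos m).ne' Nat.card_pos.ne', Finsupp.add_apply,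
      Nat.factorization_eq_zero_of_not_dvd, zero_add]
    intro h6
    exact hrp ((Nat.prime_dvd_prime_iff_eq hr hA.prime).1 (hr.dvd_of_dvd_pow h6))
  have f7 : (Nat.card f.range).factorization r ≤ (P.T2 x y z).factorization r := by
    have : Finite {w : V // P.adj x w} := inferInstance
    exact (Nat.factorization_le_iff_dvd Nat.card_pos.ne' Nat.card_pos.ne').2 (Subgroup.card_dvd_of_le f4) r
  -- arithmetic
  have hm : 2 ≤ P.n / 2 := by rcases P.hn with h | h | h <;> omega
  obtain ⟨m, hm'⟩ := Nat.exists_eq_add_of_le hm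
  rw [hm'] at f1
  have e1 : 2 + m - 1 = m + 1 := by omega
  rw [e1] at f1
  generalize s.factorization r = b at *
  generalize t.factorization r = a at *
  nlinarith [Nat.zero_le (m * a), Nat.zero_le (m * b)]

end Cfsg.Agent.H523.KA
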