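import Cfsg.Agent.H873.Tits.Stmts

/-!
# S3414, case (A): the group `S̄_y = S y / O_p(K y)`

`P : Pol G V`, `y : V`, `p` a prime.

* `Q P p y` : `O_p(K y)` as a subgroup of `G`
* `Sb P p y` : the quotient of `S y` by `Q P p y`, `pi : ↥(P.S y) →* Sb P p y`
* `im P p y X` : the image of `X ⊓ S y`
* `act : Sb P p y →* Perm Γ(y)`, kernel `im P p y (P.K y)`
* `Y P p y` : generated by the images of the `K x`, `x ~ y`; it is normal (`Y_conj`) and centralised by `im (K y)` (`Y_comm`)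
* `mem_K_of_im` (KEY') : an element of order prime to `p` whose image is in the image of `K w`, `w ~ y`, is in `K w`.
-/

set_option autoImplicit false

namespace Cfsg.Agent.H523.KA.Base

open Cfsg Cfsg.Agent.H873.Tits

universe u v

variable {G : Type u} [Group G] {V : Type v} [MulAction G V] (P : Pol G V) (p : ℕ)

theorem conj_mem_K {v : V} {a : G} (g : G) (ha : a ∈ P.K v) : g * a * g⁻¹ ∈ P.K (g • v) := by
  constructor
  · rw [mul_smul, mul_smul, inv_smul_smul, ha.1]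
  · intro w hw
    have h1 : P.adj v (g⁻¹ • w) := by
      rw [← P.adj_smul_iff g, smul_inv_smul]; exact hw
    rw [mul_smul, mul_smul, ha.2 _ h1, smul_inv_smul]

theorem K_le_S_adj {x y : V} (h : P.adj x y) : P.K x ≤ P.S y := fun _ ha => ha.2 y h

theorem toPerm_eq_one {v : V} {g : P.S v} : P.toPerm v g = 1 ↔ (g : G) ∈ P.K v := by
  constructor
  · intro h
    refine ⟨g.2, fun w hw => ?_⟩
    have := congrArg (fun σ : Equiv.Perm {w : V // P.adj v w} => ((σ ⟨w, hw⟩ : {w : V // P.adj v w}) : V)) h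
    exact this
  · intro h
    ext w
    exact h.2 w w.2

theorem mem_L {v : V} {σ : Equiv.Perm {w : V // P.adj v w}} : σ ∈ P.L v ↔ ∃ g : P.S v, P.toPerm v g = σ := by
  constructor
  · rintro ⟨g, -, e⟩; exact ⟨g, e⟩
  · rintro ⟨g, e⟩; exact ⟨g, g.2, e⟩

/-- `O_p(K y)` -/
def Q (y : V) : Subgroup G := (Cfsg.pCore p ↥(P.K y)).map (P.K y).subtype

theorem Q_le_K (y : V) : Q P p y ≤ P.K y := Subgroup.map_subtype_le _

theorem Q_le_S (y : V) : Q P p y ≤ P.S y := (Q_le_K P p y).trans (P.K_le_S y)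

theorem isPGroup_Q (y : V) : IsPGroup p ↥(Q P p y) := by
  have h1 : IsPGroup p ↥(Cfsg.pCore p ↥(P.K y)) := Sylow.sSup_of_normal _ (fun _ h => h.2) (fun _ h => h.1)
  exact h1.map _

theorem le_Q {y : V} {X : Subgroup G} (hX : X ≤ P.K y) (hn : ∀ g ∈ P.K y, ∀ a ∈ X, g * a * g⁻¹ ∈ X)
    (hp : IsPGroup p ↥X) : X ≤ Q P p y := by
  have h1 : (X.subgroupOf (P.K y)).Normal := ⟨fun a ha g => hn g g.2 a ha⟩
  have h2 : IsPGroup p ↥(X.subgroupOf (P.K y)) := hp.comap_subtype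
  have h3 : X.subgroupOf (P.K y) ≤ Cfsg.pCore p ↥(P.K y) := le_sSup ⟨h1, h2⟩
  intro a ha
  exact ⟨⟨a, hX ha⟩, h3 ha, rfl⟩

theorem conj_mem_Q {y : V} {a : G} (g : G) (ha : a ∈ Q P p y) : g * a * g⁻¹ ∈ Q P p (g • y) := by
  have h1 : (Q P p y).map (MulAut.conj g).toMonoidHom ≤ Q P p (g • y) := by
    refine le_Q P p ?_ ?_ ((isPGroup_Q P p y).map _)
    · rintro _ ⟨b, hb, rfl⟩
      exact conj_mem_K P g (Q_le_K P p y hb)
    · rintro k hk _ ⟨b, hb, rfl⟩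
      have h2 := conj_mem_K P g⁻¹ hk
      rw [inv_smul_smul, inv_inv] at h2
      obtain ⟨c, hc, rfl⟩ := hb
      refine ⟨(g⁻¹ * k * g) * c * (g⁻¹ * k * g)⁻¹, ?_, ?_⟩
      · have h3 : (Cfsg.pCore p ↥(P.K y)).Normal := by
          refine ⟨fun a ha h => ?_⟩
          have hn : (sSup {N : Subgroup ↥(P.K y) | N.Normal ∧ IsPGroup p N}).Normal :=
            Subgroup.sSup_normal _ fun _ h => h.1
          exact hn.conj_mem a ha h
        exact ⟨(⟨g⁻¹ * k * g, h2⟩ : ↥(P.K y)) * c * (⟨g⁻¹ * k * g, h2⟩ : ↥(P.K y))⁻¹, h3.conj_mem c hc _, rfl⟩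
      · show g * ((g⁻¹ * k * g) * (c : G) * (g⁻¹ * k * g)⁻¹) * g⁻¹ = k * (g * (c : G) * g⁻¹) * k⁻¹
        group
  exact h1 ⟨a, ha, rfl⟩

theorem conj_mem_Q' {y : V} {a g : G} (hg : g ∈ P.S y) (ha : a ∈ Q P p y) : g * a * g⁻¹ ∈ Q P p y := by
  have := conj_mem_Q P p g ha
  rwa [show g • y = y from hg] at this

instance normal_Q (y : V) : ((Q P p y).subgroupOf (P.S y)).Normal :=
  ⟨fun _ ha g => conj_mem_Q' P p g.2 ha⟩

/-- the normal `p`-subgroup of case (A) is in `Q` -/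
theorem exists_mem_Q {P : Pol G V} {p : ℕ} (hA : CaseA P p) {x y : V} (h : P.adj x y) : ∃ a ∈ Q P p y, a ∉ P.K x := by
  obtain ⟨X, h1, h2, h3, h4⟩ := hA.big h
  obtain ⟨a, ha, hax⟩ := Set.not_subset.1 h4
  refine ⟨a, le_Q P p h1 ?_ h3 ha, hax⟩
  intro g hg b hb
  exact h2.conj_mem ⟨b, P.K_le_S y (h1 hb)⟩ hb ⟨g, P.K_le_S y hg⟩

/-- `K x ⊓ K y ≤ O_p(K y)` in case (A) -/
theorem inf_le_Q {P : Pol G V} {p : ℕ} (hA : CaseA P p) {x y : V} (h : P.adj x y) : P.K x ⊓ P.K y ≤ Q P p y := by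
  refine le_Q P p inf_le_right ?_ (hA.pgroup h)
  intro g hg a ha
  refine ⟨?_, (P.K y).mul_mem ((P.K y).mul_mem hg ha.2) ((P.K y).inv_mem hg)⟩
  have := conj_mem_K P g ha.1
  rwa [show g • x = x from hg.2 x (P.symm h)] at this

/-- the group `S y / O_p(K y)` -/
abbrev Sb (y : V) : Type u := ↥(P.S y) ⧸ (Q P p y).subgroupOf (P.S y)

/-- the projection -/
def pi (y : V) : ↥(P.S y) →* Sb P p y := QuotientGroup.mk' _

theorem pi_surjective (y : V) : Function.Surjective (pi P p y) := QuotientGroup.mk'_surjective _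

theorem pi_eq_one {y : V} {g : P.S y} : pi P p y g = 1 ↔ (g : G) ∈ Q P p y := by
  rw [← MonoidHom.mem_ker, pi, QuotientGroup.ker_mk']; rfl

theorem pi_eq {y : V} {g h : P.S y} : pi P p y g = pi P p y h ↔ (g : G)⁻¹ * h ∈ Q P p y := by
  rw [← inv_mul_eq_one, ← map_inv, ← map_mul, pi_eq_one]; rfl

/-- the image of `X ⊓ S y` -/
def im (y : V) (X : Subgroup G) : Subgroup (Sb P p y) := (X.subgroupOf (P.S y)).map (pi P p y)

theorem mem_im {y : V} {X : Subgroup G} {b : Sb P p y} : b ∈ im P p y X ↔ ∃ g : P.S y, (g : G) ∈ X ∧ pi P p y g = b :=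
  Iff.rfl

theorem im_mono {y : V} {X X' : Subgroup G} (h : X ≤ X') : im P p y X ≤ im P p y X' := by
  rintro _ ⟨g, hg, rfl⟩
  exact ⟨g, h hg, rfl⟩

/-- the action on the neighbours of `y` -/
def act (y : V) : Sb P p y →* Equiv.Perm {w : V // P.adj y w} :=
  QuotientGroup.lift _ (P.toPerm y) fun g hg => (toPerm_eq_one P).2 (Q_le_K P p y hg)

@[simp] theorem act_pi (y : V) (g : P.S y) : act P p y (pi P p y g) = P.toPerm y g := rfl

theorem act_eq_one {y : V} {b : Sb P p y} : act P p y b = 1 ↔ b ∈ im P p y (P.K y) := by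
  obtain ⟨g, rfl⟩ := pi_surjective P p y b
  rw [act_pi, toPerm_eq_one, mem_im]
  constructor
  · intro h; exact ⟨g, h, rfl⟩
  · rintro ⟨k, hk, e⟩
    rw [pi_eq] at e
    have h1 := (P.K y).mul_mem hk (Q_le_K P p y e)
    rwa [mul_inv_cancel_left] at h1

theorem act_mem_L (y : V) (b : Sb P p y) : act P p y b ∈ P.L y := by
  obtain ⟨g, rfl⟩ := pi_surjective P p y b
  rw [act_pi, mem_L]
  exact ⟨g, rfl⟩

theorem exists_act {y : V} {σ : Equiv.Perm {w : V // P.adj y w}} (h : σ ∈ P.L y) : ∃ b : Sb P p y, act P p y b = σ := by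
  obtain ⟨g, rfl⟩ := (mem_L P).1 h
  exact ⟨pi P p y g, rfl⟩

/-- the images of `K x` and `K y` commute -/
theorem comm_im {P : Pol G V} {p : ℕ} (hA : CaseA P p) {x y : V} (h : P.adj x y) : ∀ a ∈ im P p y (P.K x), ∀ b ∈ im P p y (P.K y),
    a * b = b * a := by
  rintro _ ⟨g, hg, rfl⟩ _ ⟨k, hk, rfl⟩
  replace hg : (g : G) ∈ P.K x := hg
  replace hk : (k : G) ∈ P.K y := hk
  rw [← map_mul, ← map_mul, pi_eq]
  refine inf_le_Q hA h ⟨?_, ?_⟩
  · -- (g k)⁻¹ (k g) = k⁻¹ g⁻¹ k g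
    have h1 := conj_mem_K P (k : G)⁻¹ ((P.K x).inv_mem hg)
    rw [show (k : G)⁻¹ • x = x by rw [inv_smul_eq_iff]; exact (hk.2 x (P.symm h)).symm, inv_inv] at h1
    have h2 := (P.K x).mul_mem h1 hg
    have e : ((g * k : P.S y) : G)⁻¹ * ((k * g : P.S y) : G) = (k : G)⁻¹ * (g : G)⁻¹ * k * g := by
      push_cast; group
    rw [e]; exact h2
  · have h1 := conj_mem_K P (g : G)⁻¹ hk
    rw [show (g : G)⁻¹ • y = y by rw [inv_smul_eq_iff]; exact (hg.2 y h).symm, inv_inv] at h1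
    have h2 := (P.K y).mul_mem ((P.K y).inv_mem hk) h1
    have e : ((g * k : P.S y) : G)⁻¹ * ((k * g : P.S y) : G) = (k : G)⁻¹ * ((g : G)⁻¹ * k * g) := by
      push_cast; group
    rw [e]; exact h2

/-- `im (K x) ⊓ im (K y) = 1` -/
theorem inf_im {P : Pol G V} {p : ℕ} (hA : CaseA P p) {x y : V} (h : P.adj x y) : im P p y (P.K x) ⊓ im P p y (P.K y) = ⊥ := by
  rw [Subgroup.eq_bot_iff_forall]
  rintro b ⟨⟨g, hg, rfl⟩, ⟨k, hk, e⟩⟩
  replace hg : (g : G) ∈ P.K x := hg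
  replace hk : (k : G) ∈ P.K y := hk
  rw [pi_eq] at e
  rw [pi_eq_one]
  refine inf_le_Q hA h ⟨hg, ?_⟩
  have h1 := (P.K y).mul_mem hk (Q_le_K P p y e)
  rwa [mul_inv_cancel_left] at h1

/-- conjugation of `im (K x)` -/
theorem conj_im {y x : V} (g : P.S y) {a : Sb P p y} (ha : a ∈ im P p y (P.K x)) :
    pi P p y g * a * (pi P p y g)⁻¹ ∈ im P p y (P.K ((g : G) • x)) := by
  obtain ⟨k, hk, rfl⟩ := ha
  exact ⟨g * k * g⁻¹, conj_mem_K P (g : G) hk, by simp⟩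

/-- the group generated by the images of the `K x`, `x ~ y` -/
def Y (y : V) : Subgroup (Sb P p y) := ⨆ x : {x : V // P.adj y x}, im P p y (P.K x)

theorem im_le_Y {x y : V} (h : P.adj y x) : im P p y (P.K x) ≤ Y P p y :=
  le_iSup (fun x : {x : V // P.adj y x} => im P p y (P.K x)) ⟨x, h⟩

/-- `Y` is centralised by the image of `K y` -/
theorem Y_comm {P : Pol G V} {p : ℕ} (hA : CaseA P p) (y : V) : ∀ a ∈ Y P p y, ∀ b ∈ im P p y (P.K y), a * b = b * a := by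
  have h1 : Y P p y ≤ Subgroup.centralizer (im P p y (P.K y) : Set (Sb P p y)) := by
    refine iSup_le fun x a ha => ?_
    rw [Subgroup.mem_centralizer_iff]
    intro b hb
    exact (comm_im hA (P.symm x.2) a ha b hb).symm
  intro a ha b hb
  exact (Subgroup.mem_centralizer_iff.1 (h1 ha) b hb).symm

theorem Y_conj (y : V) (g : Sb P p y) {a : Sb P p y} (ha : a ∈ Y P p y) : g * a * g⁻¹ ∈ Y P p y := by
  obtain ⟨g, rfl⟩ := pi_surjective P p y g
  have h1 : (Y P p y).map (MulAut.conj (pi P p y g)).toMonoidHom ≤ Y P p y := by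
    unfold Y
    rw [Subgroup.map_iSup]
    refine iSup_le fun x => ?_
    rintro _ ⟨b, hb, rfl⟩
    have h2 : P.adj y ((g : G) • x.1) := by
      have := P.smul_adj (g : G) x.2
      rwa [show (g : G) • y = y from g.2] at this
    exact im_le_Y P p h2 (conj_im P p g hb)
  exact h1 ⟨a, ha, rfl⟩

/-- **KEY'**: an element of order prime to `p` with image in `im (K w)` is in `K w`. -/
theorem mem_K_of_im {p : ℕ} {y w : V} (h : P.adj y w) {g : P.S y} (hg : (orderOf (g : G)).Coprime p)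
    (hi : pi P p y g ∈ im P p y (P.K w)) : (g : G) ∈ P.K w := by
  obtain ⟨k, hk, e⟩ := hi
  replace hk : (k : G) ∈ P.K w := hk
  rw [pi_eq] at e
  -- g = k q
  obtain ⟨q, hq⟩ : ∃ q : G, q = (k : G)⁻¹ * g := ⟨_, rfl⟩
  rw [← hq] at e
  have hqw : q ∈ P.S w := (Q_le_K P p y e).2 w h
  have hgq : (g : G) = k * q := by rw [hq, mul_inv_cancel_left]
  have hgw : (g : G) ∈ P.S w := by rw [hgq]; exact (P.S w).mul_mem (P.K_le_S w hk) hqw
  obtain ⟨n, hn⟩ := isPGroup_Q P p y ⟨q, e⟩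
  have hn' : q ^ p ^ n = 1 := by
    have := congrArg Subtype.val hn
    simpa using this
  have h1 : P.toPerm w ⟨g, hgw⟩ = P.toPerm w ⟨q, hqw⟩ := by
    have h2 : (⟨g, hgw⟩ : P.S w) = ⟨k, P.K_le_S w hk⟩ * ⟨q, hqw⟩ := Subtype.ext hgq
    rw [h2, map_mul, (toPerm_eq_one P).2 (show ((⟨k, P.K_le_S w hk⟩ : P.S w) : G) ∈ P.K w from hk), one_mul]
  have h3 : orderOf (P.toPerm w ⟨g, hgw⟩) ∣ p ^ n := by
    rw [h1]
    apply orderOf_dvd_of_pow_eq_one
    rw [← map_pow, show (⟨q, hqw⟩ : P.S w) ^ p ^ n = 1 from Subtype.ext (by simpa using hn'), map_one]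
  have h4 : orderOf (P.toPerm w ⟨g, hgw⟩) ∣ orderOf (g : G) := by
    rw [← Subgroup.orderOf_mk (g : G) hgw]
    exact orderOf_map_dvd _ _
  have h5 : orderOf (P.toPerm w ⟨g, hgw⟩) = 1 := by
    have h6 := Nat.Coprime.coprime_dvd_left h4 (Nat.Coprime.pow_right n hg)
    exact Nat.Coprime.eq_one_of_dvd h6 h3
  rw [orderOf_eq_one_iff, toPerm_eq_one] at h5
  exact h5

end Cfsg.Agent.H523.KA.Base
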