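import Cfsg.Agent.H873.Tits.AsmA
import Cfsg.Agent.H873.Tits.End
import Cfsg.Agent.H506.Tits.StmtsB
import Cfsg.Agent.H115.Tits.Kill
import Cfsg.Agent.H263.TW.Chain
import Cfsg.Agent.H384.TwoTransRed
import Cfsg.Agent.SmallSimple.Embed
import Cfsg.Agent.S0035

/-!
# S3414, case (B), piece `StBRk` (helper523; proof by helper506)

`L y` not affine, `O_p (A y) ≠ 1`, `q b` a power of `p`.
-/

set_option autoImplicit false

namespace Cfsg.Agent.H523.KA.BRk

open Cfsg.Agent.H873.Tits Cfsg.Agent.H506.Tits Cfsg.Agent.H384.TwoTrans MulAction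

universe u v

/-! ### the socle of a nonaffine 2-transitive group -/

/-- the socle of a non-affine 2-transitive group; it contains a nontrivial element with two fixed points -/
theorem exists_soc {Ω : Type v} [Finite Ω] (L : Subgroup (Equiv.Perm Ω)) (h2 : TwoTr L) (h3 : 3 ≤ Nat.card Ω)
    (haff : ¬ Aff L) :
    ∃ T : Subgroup (Equiv.Perm Ω), T ≤ L ∧ (T.subgroupOf L).Normal ∧ IsSimpleGroup T ∧ ¬ IsMulCommutative T ∧
      (∀ N : Subgroup (Equiv.Perm Ω), N ≤ L → (N.subgroupOf L).Normal → N ≠ ⊥ → T ≤ N) ∧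
      ∃ x z : Ω, x ≠ z ∧ ∃ σ ∈ T, σ ≠ 1 ∧ σ x = x ∧ σ z = z := by
  have h2' : IsMultiplyPretransitive L Ω 2 := by
    rw [is_two_pretransitive_iff]
    intro a b c d hab hcd
    obtain ⟨g, hg, h1, h2⟩ := h2 a b c d hab hcd
    exact ⟨⟨g, hg⟩, h1, h2⟩
  rcases reduction h2' h3 with ⟨N, hN, hNb, hNc, -, hNt, hNs⟩ | ⟨T, A⟩
  · exfalso
    apply haff
    have hsub : (N.map L.subtype).subgroupOf L = N := by
      rw [Subgroup.subgroupOf, Subgroup.comap_map_eq_self_of_injective L.subtype_injective]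
    refine ⟨N.map L.subtype, Subgroup.map_subtype_le N, by rw [hsub]; exact hN, ?_, ?_, ?_⟩
    · refine ⟨⟨?_⟩⟩
      rintro ⟨_, a, ha, rfl⟩ ⟨_, b, hb, rfl⟩
      apply Subtype.ext
      have := congrArg (fun t : N => ((t : L) : Equiv.Perm Ω)) (hNc.is_comm.comm (⟨a, ha⟩ : N) ⟨b, hb⟩)
      exact this
    · refine ⟨fun x z => ?_⟩
      obtain ⟨n, hn, h⟩ := hNt x z
      exact ⟨⟨n, n, hn, rfl⟩, h⟩
    · intro a
      rw [eq_bot_iff]
      rintro ⟨_, n, hn, rfl⟩ h
      have h1 := hNs a n hn h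
      rw [Subgroup.mem_bot]
      subst h1
      rfl
  · have hsub : (T.map L.subtype).subgroupOf L = T := by
      rw [Subgroup.subgroupOf, Subgroup.comap_map_eq_self_of_injective L.subtype_injective]
    have hTs := A.simple
    have hTn := A.normal
    have htr := A.transitive
    have hnt := A.nontrivialΩ
    let eT : T ≃* T.map L.subtype := T.equivMapOfInjective L.subtype L.subtype_injective
    refine ⟨T.map L.subtype, Subgroup.map_subtype_le T, by rw [hsub]; exact A.normal, ?_, ?_, ?_, ?_⟩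
    · have hT0 : Nontrivial T := hTs.toNontrivial
      have : Nontrivial (T.map L.subtype) := eT.injective.nontrivial
      exact IsSimpleGroup.isSimpleGroup_of_surjective (eT : T →* _) eT.surjective
    · intro hc
      apply A.nonab
      refine ⟨⟨fun a b => eT.injective ?_⟩⟩
      rw [map_mul, map_mul]
      exact hc.is_comm.comm _ _
    · intro M hML hMn hMb
      have h1 : T ≤ M.subgroupOf L := by
        refine A.le_of_normal _ hMn ?_
        intro h
        apply hMb
        rw [Subgroup.subgroupOf_eq_bot] at h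
        rw [← inf_eq_left.2 hML]
        exact h.eq_bot
      rintro _ ⟨t, ht, rfl⟩
      exact h1 ht
    · by_contra hno
      push Not at hno
      have hno' : ∀ x z : Ω, x ≠ z → ∀ t : T, t • x = x → t • z = z → t = 1 := by
        intro x z hxz t hx hz
        by_contra ht
        refine hno x z hxz ((t : L) : Equiv.Perm Ω) ⟨t, t.2, rfl⟩ ?_ hx hz
        intro h
        exact ht (Subtype.ext (Subtype.ext h))
      by_cases hst : ∀ a : Ω, stabilizer T a = ⊥
      · exact A.nonab
          (Cfsg.Agent.PermutationGroups.TwoTransitiveNormal.regular_normal_elementary_abelian A.two' T hst).1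
      · push Not at hst
        obtain ⟨a, ha⟩ := hst
        obtain ⟨b, hb⟩ := A.two_ne a
        have htop : stabilizer T a ≠ ⊤ := by
          intro h
          obtain ⟨t, ht⟩ := exists_smul_eq T a b
          have h1 : t ∈ stabilizer T a := by rw [h]; trivial
          rw [mem_stabilizer_iff] at h1
          exact hb (ht.symm.trans h1)
        have hF : Cfsg.IsFrobeniusComplement (stabilizer T a) := by
          refine ⟨ha, htop, fun g hg => ?_⟩
          rw [eq_bot_iff]
          rintro x ⟨hx1, hx2⟩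
          obtain ⟨y, hy, hy2⟩ := hx2
          rw [Subgroup.mem_bot]
          refine hno' a (g • a) (fun h => hg h.symm) x hx1 ?_
          have h1 : x = g * y * g⁻¹ := by
            rw [← hy2]
            rfl
          have h2 : y • a = a := hy
          rw [h1, mul_smul, mul_smul, inv_smul_smul, h2]
        obtain ⟨N, -, hN, hNc⟩ := Cfsg.Agent.S0035.result _ hF
        rcases hTs.eq_bot_or_eq_top_of_normal N hN with rfl | rfl
        · exact htop (Subgroup.isComplement'_bot_left.1 hNc)
        · exact ha (Subgroup.isComplement'_top_left.1 hNc)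

/-! ### the index -/

section

variable {G : Type u} [Group G] [Finite G] {V : Type v} [Finite V] [MulAction G V] {P : Pol G V}

/-- `s` divides `i_y` -/
theorem s_dvd_idx (F : Facts P) {b : Bool} (hB : CaseB P b) {y y' : V} (hy : P.tp y = b) (hopp : P.Opp y y') :
    P.q (!b) ∣ P.idx y y' := by
  obtain ⟨x, hx, -⟩ := exists_other (P := P) (x := y) (y := y)
  obtain ⟨w, hw, hwy⟩ := exists_other (P := P) (x := x) (y := y)
  obtain ⟨d, ⟨e, he⟩, hd⟩ := Cfsg.Agent.H263.TW.caseB_card_K F hB hy hx hw hwy.symm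
  obtain ⟨f, hf⟩ := F.caseB_card hB hy (P.symm hx)
  rw [Cfsg.Agent.H263.TW.EB_eq hB hy (P.symm hx)] at hf
  have h1 := Cfsg.Agent.H263.TW.caseB_idx F hB hy hopp
  have hm : P.q (!b) ^ (P.n / 2) = P.q (!b) ^ (P.n / 2 - 2) * P.q (!b) ^ 2 := by
    rw [← pow_add]
    congr 1
    have := P.hn
    omega
  rw [hd, hm, ← mul_assoc (P.q b ^ (P.n / 2 - 1)), hf] at h1
  have hE : 0 < Nat.card (Cfsg.Agent.H263.TW.EB P y) := Nat.card_pos
  have hs := P.two_le (!b)
  have hd0 : 0 < d := by
    rcases Nat.eq_zero_or_pos d with h | h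
    · rw [h, zero_mul] at he
      omega
    · exact h
  refine ⟨f * e, ?_⟩
  have h2 : (P.idx y y') * (Nat.card (Cfsg.Agent.H263.TW.EB P y) * d) =
      (P.q (!b) * (f * e)) * (Nat.card (Cfsg.Agent.H263.TW.EB P y) * d) := by
    rw [h1]
    nth_rewrite 1 [sq]
    nth_rewrite 2 [he]
    ring
  exact Nat.eq_of_mul_eq_mul_right (Nat.mul_pos hE hd0) h2

omit [Finite G] [Finite V] in
theorem idx_ne_zero {y y' : V} : P.idx y y' ≠ 0 := by
  have := Cfsg.Agent.H263.TW.finite_nb P y
  exact (Subgroup.index_ne_zero_of_finite : ((P.L' y y').subgroupOf (P.L y)).index ≠ 0)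

end

/-! ### numerics -/

theorem four_lt {e : ℕ} (he : 4 ≤ e) : 3 * e < 2 ^ e := by
  induction e, he using Nat.le_induction with
  | base => norm_num
  | succ n hn ih => rw [pow_succ]; omega

theorem coprime_pow_pred {p k e : ℕ} (hp : p.Prime) (hk : 1 ≤ k) : (p ^ e).Coprime (p ^ k - 1) := by
  apply Nat.Coprime.pow_left
  rw [hp.coprime_iff_not_dvd]
  intro h
  have h1 : p ∣ p ^ k := dvd_pow_self p (by omega)
  have h2 : p ∣ 1 := by
    have h3 : 1 = p ^ k - (p ^ k - 1) := by
      have := Nat.one_le_pow k p hp.pos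
      omega
    rw [h3]
    exact Nat.dvd_sub h1 h
  exact hp.one_lt.ne' (Nat.dvd_one.1 h2)

theorem idx_le_four {n p k c e T : ℕ} (hn : n = 4 ∨ n = 6 ∨ n = 8) (hp : p.Prime) (hk : 1 ≤ k) (hc : 1 ≤ c) (hce : c ≤ e)
    (h48 : (n = 4 ∨ n = 8) → k ≤ 2 * c) (h6 : n = 6 → k ≤ 3 * c) (hfh : n = 6 → Even (k + c)) (hT : p ^ e ∣ T)
    (hL : TBd p k T ∨ Spec p k T) : p ^ e ≤ 4 := by
  have hk3 : k ≤ 3 * c := by
    rcases hn with h | h | h
    · have := h48 (Or.inl h); omega
    · exact h6 h
    · have := h48 (Or.inr h); omega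
  have hp2 := hp.two_le
  have h2e : 2 ^ e ≤ p ^ e := Nat.pow_le_pow_left hp2 e
  rcases hL with (h | ⟨f, hf, h⟩) | ⟨-, -, h⟩ | ⟨rfl, -, h⟩ | ⟨-, -, h⟩ | ⟨rfl, -, h⟩
  · have h1 : p ^ e ∣ k := (coprime_pow_pred hp hk).dvd_of_dvd_mul_left (hT.trans h)
    have h2 := Nat.le_of_dvd (by omega) h1
    have he : e ≤ 3 := by
      by_contra hcon
      have := four_lt (e := e) (by omega)
      omega
    interval_cases e
    · omega
    · rw [pow_one] at h2 ⊢
      omega
    · by_contra hcon
      have h3 : 3 ≤ p := by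
        by_contra h4
        have : p = 2 := by omega
        subst this
        norm_num at hcon
      have : 3 ^ 2 ≤ p ^ 2 := Nat.pow_le_pow_left h3 2
      omega
    · exfalso
      have hp' : p = 2 := by
        by_contra h4
        have : 3 ^ 3 ≤ p ^ 3 := Nat.pow_le_pow_left (by omega) 3
        omega
      subst hp'
      have hk8 : k = 8 := by
        obtain ⟨j, hj⟩ := h1
        omega
      rcases hn with h | h | h
      · have := h48 (Or.inl h); omega
      · have h5 := hfh h
        have hc3 : c = 3 := by omega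
        rw [hk8, hc3] at h5
        exact absurd h5 (by decide)
      · have := h48 (Or.inr h); omega
  · have hf1 : 1 ≤ f := by omega
    have h1 : p ^ e ∣ 2 * f := (coprime_pow_pred hp (by omega : 1 ≤ 2 * f)).dvd_of_dvd_mul_left (hT.trans h)
    have h2 := Nat.le_of_dvd (by omega) h1
    have he : e ≤ 3 := by
      by_contra hcon
      have := four_lt (e := e) (by omega)
      omega
    interval_cases e
    · omega
    · rw [pow_one] at h2 ⊢
      omega
    · omega
    · exfalso
      omega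
  · rw [h, Nat.dvd_one] at hT
    omega
  · have h1 := Nat.le_of_dvd (by norm_num) (hT.trans h)
    have he : e ≤ 2 := by
      by_contra hcon
      have : 2 ^ 3 ≤ 2 ^ e := Nat.pow_le_pow_right (by norm_num) (by omega)
      omega
    interval_cases e <;> norm_num
  · exfalso
    have h1 := Nat.le_of_dvd (by omega) (hT.trans h)
    have h2 : p ^ 1 ≤ p ^ e := Nat.pow_le_pow_right hp.pos (by omega)
    rw [pow_one] at h2
    omega
  · have h1 := Nat.le_of_dvd (by norm_num) (hT.trans h)
    omega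

/-- **`StBRk`** -/
theorem st_brk (h2 : StTab2.{v}) (hl : StLoc.{v}) (h5 : StBS5.{u, v}) : StBRk.{u, v} := by
  intro G _ _ V _ _ P F N b hB y hy haff p a c Q hQ ⟨k, hk⟩
  obtain ⟨y', hopp⟩ := F.exists_opp y
  have hfin := Cfsg.Agent.H263.TW.finite_nb P y
  have h3 : 3 ≤ Nat.card {w : V // P.adj y w} := by
    rw [P.card_nb]
    have := P.two_le (P.tp y)
    omega
  obtain ⟨T, hTL, hTn, hTs, hTna, hTmin, x, z, hxz, σ, hσ, hσ1, hσx, hσz⟩ :=
    exists_soc (P.L y) (twoTr_L F y) h3 haff
  have kill : ¬ T ≤ P.L' y y' := fun hT =>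
    hσ1 (Cfsg.Agent.H115.Tits.kill F hB hy hopp T hT hTn hxz hσ hσx hσz)
  by_cases hex : ∃ r : ℕ, r.Prime ∧ r ≠ p ∧ r ∣ P.idx y y'
  · obtain ⟨r, hr, hrp, hri⟩ := hex
    rcases h2 (P.L y) (P.L' y y') _ _ _ _ _ hQ (twoTr_L' F hopp) L'_le_L ⟨k, hk⟩ haff hr hrp hri with
        ⟨X, hX1, hX2, hX3, hX4⟩ | ⟨e1, e2, e3, e4, e5⟩
    · have hXb : X ≠ ⊥ := by
        rintro rfl
        obtain ⟨τ, hτ, h1, -⟩ := hX3 a c hQ.ne
        rw [Subgroup.mem_bot] at hτ
        rw [hτ] at h1
        exact hQ.ne h1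
      exact kill ((hTmin X (hX1.trans L'_le_L) hX2 hXb).trans hX1)
    · exact h5 P F N hB hy hopp e1 e4 e5
  · push Not at hex
    have hp := hQ.prime
    obtain ⟨e, he⟩ : ∃ e, P.idx y y' = p ^ e :=
      ⟨_, Nat.eq_prime_pow_of_unique_prime_dvd idx_ne_zero fun {d} hd hdi => by
        by_contra hdp
        exact hex d hd hdp hdi⟩
    have hsd := s_dvd_idx F hB hy hopp
    rw [he] at hsd
    obtain ⟨c', hce, hc'⟩ := (Nat.dvd_prime_pow hp).1 hsd
    have hs2 := P.two_le (!b)
    have ht2 := P.two_le b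
    have hc1 : 1 ≤ c' := by
      by_contra hcon
      have : c' = 0 := by omega
      rw [this, pow_zero] at hc'
      omega
    have hk1 : 1 ≤ k := by
      by_contra hcon
      have : k = 0 := by omega
      rw [this, pow_zero] at hk
      omega
    have hT2 : p ^ e ∣ Nat.card ↥(Stb (P.L y) a ⊓ Stb (P.L y) c) := by
      rw [← he, show Nat.card ↥(Stb (P.L y) a ⊓ Stb (P.L y) c) = P.T2 y a.1 c.1 from (T2_eq a.2 c.2).symm]
      exact idx_dvd_T2 F hopp a.2 c.2 fun h => hQ.ne (Subtype.ext h)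
    have hloc := hl (P.L y) (P.L' y y') _ _ k _ _ _ hQ (twoTr_L' F hopp) L'_le_L hk ⟨e, he⟩
    have hle : p ^ e ≤ 4 := by
      refine idx_le_four P.hn hp hk1 hc1 hce ?_ ?_ ?_ hT2 (hloc.imp (fun h => h.2.2) id)
      · intro hn
        have h1 := N.hig48 hn b
        rw [hk, hc', ← pow_mul] at h1
        have := (Nat.pow_le_pow_iff_right hp.one_lt).1 h1
        omega
      · intro hn
        have h1 := N.hig6 hn b
        rw [hk, hc', ← pow_mul] at h1
        have := (Nat.pow_le_pow_iff_right hp.one_lt).1 h1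
        omega
      · intro hn
        obtain ⟨g, hg, -⟩ := N.fh6 hn
        have h1 : p ^ (k + c') = g ^ 2 := by
          rw [pow_add, ← hk, ← hc', ← hg]
          cases b
          · exact mul_comm _ _
          · rfl
        have h2 := congrArg (fun m => m.factorization p) h1
        simp only [Nat.factorization_pow, hp.factorization_self, Finsupp.smul_apply, smul_eq_mul, mul_one] at h2
        exact ⟨g.factorization p, by omega⟩
    -- `T ≤ L'`
    apply kill
    by_contra hTL'
    have h6 : (P.L' y y').subgroupOf T ≠ ⊤ := fun h => hTL' (Subgroup.subgroupOf_eq_top.1 h)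
    have h7 := Cfsg.Agent.SmallSimple.Embed.five_le_index hTna _ h6
    have h8 : (P.L' y y').relIndex T ≤ (P.L' y y').relIndex (P.L y) :=
      Subgroup.relIndex_le_of_le_right hTL idx_ne_zero
    have h9 : (P.L' y y').relIndex (P.L y) = p ^ e := he
    have h10 : 5 ≤ (P.L' y y').relIndex T := h7
    omega

end Cfsg.Agent.H523.KA.BRk
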