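import Cfsg.Agent.H115.Tits.TabNum

/-!
# S3414, TABSQ: the numerical part of the row `Sp_2m(2)` (helper523)
-/

set_option autoImplicit false

namespace Cfsg.Agent.H523.KA.NumSp

open Finset Cfsg.Agent.H163.PG Cfsg.Agent.H115.Tits

theorem pow_split (m : ℕ) : 2 ^ (2 * m) - 1 = (2 ^ m - 1) * (2 ^ m + 1) := by
  have h1 := Nat.sq_sub_sq (2 ^ m) 1
  rw [one_pow, ← pow_mul, mul_comm m 2] at h1
  rw [h1, mul_comm]

/-- general step -/
theorem step {m j t r a : ℕ} (hr : Ppd 2 (2 * j) r) (hj1 : 2 ≤ j) (hjm : j ≤ m) (hmj : m < 2 * j)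
    (ht : t = a * (2 ^ j + 1)) (hta : 0 < a)
    (h : t * t ∣ 2 ^ (m ^ 2) * ∏ i ∈ range m, (2 ^ (2 * (i + 1)) - 1)) : False := by
  have hiff := hr.dvd_iff (by norm_num : 1 ≤ 2)
  have hpos : ∀ k : ℕ, 1 ≤ k → 2 ≤ 2 ^ k := fun k hk => by
    calc 2 = 2 ^ 1 := rfl
      _ ≤ 2 ^ k := Nat.pow_le_pow_right (by norm_num) hk
  have hnd : ¬ r ∣ 2 ^ j - 1 := by
    rw [hiff]
    intro h'
    have := Nat.le_of_dvd (by omega) h'
    omega
  have hd : r ∣ 2 ^ (2 * j) - 1 := (hiff _).2 dvd_rfl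
  have hd' : r ∣ 2 ^ j + 1 := by
    rw [pow_split] at hd
    exact (hr.prime.dvd_mul.1 hd).resolve_left hnd
  have hval : (2 ^ (2 * j) - 1).factorization r = (2 ^ j + 1).factorization r := by
    have h1 := hpos j (by omega)
    rw [pow_split, Nat.factorization_mul (by omega) (by omega), Finsupp.add_apply,
      Nat.factorization_eq_zero_of_not_dvd hnd, zero_add]
  have h0 : ∀ i, 2 ^ (2 * (i + 1)) - 1 ≠ 0 := fun i => by
    have := hpos (2 * (i + 1)) (by omega)
    omega
  have hN0 : 2 ^ (m ^ 2) * ∏ i ∈ range m, (2 ^ (2 * (i + 1)) - 1) ≠ 0 :=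
    mul_ne_zero (pow_ne_zero _ (by norm_num)) (Finset.prod_ne_zero_iff.2 fun i _ => h0 i)
  have ht0 : t ≠ 0 := by
    rw [ht]
    exact mul_ne_zero (by omega) (Nat.succ_ne_zero _)
  refine not_sq_dvd (M := 2 ^ (2 * j) - 1) hr.prime (ht ▸ hd'.mul_left _) hN0 h ?_ ?_
  · rw [Nat.factorization_mul (pow_ne_zero _ (by norm_num)) (Finset.prod_ne_zero_iff.2 fun i _ => h0 i),
      Finsupp.add_apply, Nat.factorization_eq_zero_of_not_dvd (fun h' => hr.not_dvd (by omega)
        (hr.prime.dvd_of_dvd_pow h')), zero_add]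
    have h5 := factorization_prod_le (r := r) (k := m) (j := j - 1) (fun i => 2 ^ (2 * (i + 1)) - 1) h0 (by
      intro i hi hij h'
      rw [hiff] at h'
      rw [Finset.mem_range] at hi
      have h6 : j ∣ i + 1 := Nat.dvd_of_mul_dvd_mul_left (by norm_num) h'
      obtain ⟨c, hc⟩ := h6
      have hc0 : c ≠ 0 := by
        rintro rfl
        omega
      have hc1 : c = 1 := by
        by_contra hc1
        have : j * 2 ≤ j * c := Nat.mul_le_mul_left _ (by omega)
        omega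
      subst hc1
      omega)
    rw [show j - 1 + 1 = j by omega] at h5
    exact h5
  · rw [hval, ht, Nat.factorization_mul (by omega) (Nat.succ_ne_zero _), Finsupp.add_apply]
    exact Nat.le_add_left _ _

/-- **`Sp_2m(2)`** -/
theorem num_sp {m t : ℕ} (hm : 3 ≤ m) (ht : t + 1 = 2 ^ (m - 1) * (2 ^ m + 1) ∨ t + 1 = 2 ^ (m - 1) * (2 ^ m - 1))
    (h : t * t ∣ 2 ^ (m ^ 2) * ∏ i ∈ range m, (2 ^ (2 * (i + 1)) - 1)) : False := by
  obtain ⟨k, rfl⟩ := Nat.exists_eq_add_of_le' hm
  rw [show k + 3 - 1 = k + 2 by omega] at ht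
  have e1 : 2 ^ (k + 3) = 2 * 2 ^ (k + 2) := by ring
  have e2 : 4 ≤ 2 ^ (k + 2) := by
    calc 4 = 2 ^ 2 := rfl
      _ ≤ 2 ^ (k + 2) := Nat.pow_le_pow_right (by norm_num) (by omega)
  rcases ht with ht | ht
  · by_cases h4 : k = 1
    · subst h4
      have : t = 135 := by norm_num at ht; omega
      subst this
      revert h
      simp only [Finset.prod_range_succ, Finset.prod_range_zero]
      norm_num
    · obtain ⟨r, hr⟩ := Ppd.exists (p := 2) (n := 2 * (k + 2)) (by norm_num) (by omega) (by omega)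
      refine step (j := k + 2) (m := k + 3) (a := 2 ^ (k + 3) - 1) hr (by omega) (by omega) (by omega) ?_ (by omega) h
      rw [e1] at ht ⊢
      generalize 2 ^ (k + 2) = x at *
      obtain ⟨y, rfl⟩ := Nat.exists_eq_add_of_le' (show 1 ≤ x by omega)
      have e3 : 2 * (y + 1) - 1 = 2 * y + 1 := by omega
      rw [e3]
      nlinarith
  · by_cases h3 : k = 0
    · subst h3
      have : t = 27 := by norm_num at ht; omega
      subst this
      revert h
      simp only [Finset.prod_range_succ, Finset.prod_range_zero]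
      norm_num
    · obtain ⟨r, hr⟩ := Ppd.exists (p := 2) (n := 2 * (k + 3)) (by norm_num) (by omega) (by omega)
      refine step (j := k + 3) (m := k + 3) (a := 2 ^ (k + 2) - 1) hr (by omega) (by omega) (by omega) ?_ (by omega) h
      rw [e1] at ht ⊢
      generalize 2 ^ (k + 2) = x at *
      obtain ⟨y, rfl⟩ := Nat.exists_eq_add_of_le' (show 1 ≤ x by omega)
      have e3 : 2 * (y + 1) - 1 = 2 * y + 1 := by omega
      rw [e3] at ht
      have e4 : y + 1 - 1 = y := by omega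
      rw [e4]
      nlinarith

end Cfsg.Agent.H523.KA.NumSp
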